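import Cfsg.Agent.Lib.KnownC.AutPSL.GraphField
import Cfsg.Agent.Lib.KnownC.AutPSU.Balance.Common

/-!
# Automorphisms of `PSL_n` centralising given elements
-/

set_option autoImplicit false
set_option linter.unusedSectionVars false

namespace CfsgLib.KnownC.AutPSL.Balance

open Matrix

variable {F : Type*} [Field F] {n : ℕ}

local notation "Mn" => Matrix (Fin n) (Fin n) F
local notation "SLn" => Matrix.SpecialLinearGroup (Fin n) F
local notation "PSLn" => Matrix.ProjectiveSpecialLinearGroup (Fin n) F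

theorem center_scalar {s : SLn} (h : s ∈ Subgroup.center SLn) :
    ∃ c : F, (s : Mn) = c • (1 : Mn) := by
  obtain ⟨c, -, hc⟩ := Matrix.SpecialLinearGroup.mem_center_iff.1 h
  exact ⟨c, by rw [← hc, Matrix.scalar_apply, Matrix.smul_one_eq_diagonal]⟩

theorem mem_center_of_scalar {s : SLn} {c : F} (h : (s : Mn) = c • (1 : Mn)) : s ∈ Subgroup.center SLn :=
  Subgroup.mem_center_iff.2 fun t => Subtype.ext (by
    rw [Matrix.SpecialLinearGroup.coe_mul, Matrix.SpecialLinearGroup.coe_mul, h]
    simp)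

theorem conj_injective (hn : 2 ≤ n) : Function.Injective (MulAut.conj : PSLn →* MulAut PSLn) :=
  (injective_iff_map_eq_one _).2 fun x => by
    induction x using QuotientGroup.induction_on with
    | _ s =>
      intro h
      rw [conj_mk] at h
      obtain ⟨-, c, hc⟩ := semi_eq_one hn h
      exact (QuotientGroup.eq_one_iff s).2 (mem_center_of_scalar hc)

/-- An automorphism fixing the class of `s` fixes `s` up to a scalar. -/
theorem fix_mk (B : GL (Fin n) F) (τ : F ≃+* F) {s : SLn}
    (h : semiAut B τ (QuotientGroup.mk s) = QuotientGroup.mk s) :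
    ∃ c : F, (B : Mn) * (s : Mn).map τ = c • ((s : Mn) * B) := by
  rw [semiAut_mk, eq_comm, QuotientGroup.eq] at h
  obtain ⟨c, hc⟩ := center_scalar h
  refine ⟨c, ?_⟩
  have e : ((semiSL B τ s : SLn) : Mn) = c • (s : Mn) := by
    rw [← mul_inv_cancel_left s (semiSL B τ s), Matrix.SpecialLinearGroup.coe_mul, hc, Matrix.mul_smul, Matrix.mul_one]
  rw [semiSL_coe] at e
  have := congrArg (fun X => X * (B : Mn)) e
  simpa [Matrix.mul_assoc] using this

/-- A fixed scalar is a root of unity of order dividing that of the automorphism. -/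
theorem scalar_pow (hn : 2 ≤ n) (B : GL (Fin n) F) (τ : F ≃+* F) {s : SLn} {c : F}
    (hc : (B : Mn) * (s : Mn).map τ = c • ((s : Mn) * B)) (hcfix : τ c = c) {k : ℕ} (hk : semiAut B τ ^ k = 1) :
    c ^ k = 1 := by
  have hj : ∀ j : ℕ, (semiPow B τ j : Mn) * (s : Mn).map (τ ^ j : F ≃+* F) =
      c ^ j • ((s : Mn) * (semiPow B τ j : Mn)) := fun j => by
    induction j with
    | zero => simp [semiPow]
    | succ j ih =>
      have h1 := congrArg (fun X : Mn => X.map τ) ih
      simp only [Matrix.map_mul] at h1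
      rw [Matrix.map_map, show ((c ^ j • ((s : Mn) * (semiPow B τ j : Mn))).map τ) =
        c ^ j • ((s : Mn).map τ * (semiPow B τ j : Mn).map τ) from by
          rw [← Matrix.map_mul]; ext a b
          rw [Matrix.map_apply, Matrix.smul_apply, Matrix.smul_apply, Matrix.map_apply, smul_eq_mul, smul_eq_mul,
            map_mul, map_pow, hcfix]] at h1
      rw [show (semiPow B τ (j + 1) : Mn) = (B : Mn) * (semiPow B τ j : Mn).map τ from rfl, Matrix.mul_assoc,
        show (s : Mn).map (τ ^ (j + 1) : F ≃+* F) = (s : Mn).map (τ ∘ (τ ^ j : F ≃+* F)) by rw [pow_succ']; rfl, h1,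
        Matrix.mul_smul, ← Matrix.mul_assoc, hc, Matrix.smul_mul, smul_smul, Matrix.mul_assoc, pow_succ]
  have h1 := hj k
  rw [semiAut_pow] at hk
  obtain ⟨hτ, u, hu⟩ := semi_eq_one hn hk
  rw [hτ, hu] at h1
  simp only [RingEquiv.coe_refl, Matrix.map_id, Matrix.smul_mul, Matrix.one_mul, Matrix.mul_smul, Matrix.mul_one,
    smul_smul] at h1
  haveI : Nonempty (Fin n) := ⟨⟨0, by omega⟩⟩
  have hs0 : (s : Mn) ≠ 0 := fun e => by
    have hd := s.2
    rw [e, Matrix.det_zero] at hd
    exact zero_ne_one hd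
  exact (mul_right_cancel₀ u.ne_zero (a := (c ^ k)) (c := (1 : F))
    (by rw [one_mul]; exact (smul_left_injective F hs0 h1).symm))

/-- For automorphisms of odd order a sign is trivial. -/
theorem sign_one (hn : 2 ≤ n) (B : GL (Fin n) F) (τ : F ≃+* F) {s : SLn} {c : F}
    (hc : (B : Mn) * (s : Mn).map τ = c • ((s : Mn) * B)) (hs : (s : Mn) * (s : Mn) = 1)
    (hodd : Odd (orderOf (semiAut B τ))) : c = 1 := by
  haveI : Nonempty (Fin n) := ⟨⟨0, by omega⟩⟩
  have hmm : (s : Mn).map τ * (s : Mn).map τ = 1 := by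
    rw [← Matrix.map_mul, hs]; simp
  have h2 : c * c = 1 := by
    have e : (B : Mn) * ((s : Mn).map τ * (s : Mn).map τ) = (c * c) • ((s : Mn) * (s : Mn) * B) := by
      rw [← Matrix.mul_assoc, hc, Matrix.smul_mul, Matrix.mul_assoc, hc, Matrix.mul_smul, smul_smul, Matrix.mul_assoc]
    rw [hmm, hs, Matrix.one_mul, Matrix.mul_one] at e
    have hB : (B : Mn) ≠ 0 := fun e0 => B.det_ne_zero (by rw [e0, Matrix.det_zero])
    exact smul_left_injective F hB (e.symm.trans (one_smul F _).symm)
  have hk := scalar_pow hn B τ hc (by rcases mul_self_eq_one_iff.1 h2 with e | e <;> simp [e]) (pow_orderOf_eq_one _)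
  obtain ⟨j, hj⟩ := hodd
  rwa [hj, pow_succ, pow_mul, pow_two, h2, one_pow, one_mul] at hk

/-- Automorphisms of odd order are semilinear. -/
theorem semi_of_odd [Finite F] (hn : 2 ≤ n) (m : MulAut PSLn) (hodd : Odd (orderOf m)) :
    ∃ (B : GL (Fin n) F) (τ : F ≃+* F), m = semiAut B τ := by
  obtain ⟨B, τ, h | h⟩ := exists_semi hn m
  · exact ⟨B, τ, h⟩
  obtain ⟨j, hj⟩ := hodd
  have e : m = (m * m) ^ (j + 1) := by
    rw [← pow_two, ← pow_mul, show 2 * (j + 1) = orderOf m + 1 by omega, pow_succ, pow_orderOf_eq_one, one_mul]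
  exact ⟨_, _, e.trans (by rw [h, gf_sq, semiAut_pow])⟩

/-- The scalar is one for unipotent elements of degree two. -/
theorem unip_comm (B : GL (Fin n) F) {N N' : Mn} {c : F} (h : (B : Mn) * (1 + N) = c • ((1 + N') * B))
    (hN : N * N = 0) (hN' : N' * N' = 0) (h0 : N' ≠ 0) : c = 1 ∧ (B : Mn) * N = N' * B := by
  have hX : (B : Mn) * N = ((c - 1) • (1 : Mn) + c • N') * B := by
    rw [Matrix.mul_add, Matrix.mul_one] at h
    rw [Matrix.add_mul, Matrix.smul_mul, Matrix.smul_mul, Matrix.one_mul, eq_sub_of_add_eq' h, Matrix.add_mul,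
      Matrix.one_mul]
    module
  have h2 : ((c - 1) • (1 : Mn) + c • N') * ((c - 1) • (1 : Mn) + c • N') = 0 := by
    have : ((c - 1) • (1 : Mn) + c • N') * ((c - 1) • (1 : Mn) + c • N') * (B : Mn) = 0 := by
      rw [Matrix.mul_assoc, ← hX, ← Matrix.mul_assoc, ← hX, Matrix.mul_assoc, hN, Matrix.mul_zero]
    simpa using congrArg (fun X => X * ((B⁻¹ : GL (Fin n) F) : Mn)) this
  have h3 := congrArg (fun X => N' * X) h2
  simp only [Matrix.add_mul, Matrix.mul_add, Matrix.smul_mul, Matrix.mul_smul, Matrix.one_mul, Matrix.mul_one,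
    smul_smul, hN', Matrix.mul_zero, smul_zero, add_zero, ← Matrix.mul_assoc, Matrix.zero_mul] at h3
  have hc : c = 1 := by
    have := (smul_eq_zero.1 h3).resolve_right h0
    exact sub_eq_zero.1 (mul_self_eq_zero.1 this)
  exact ⟨hc, by simpa [hc] using hX⟩

/-- A semilinear map fixing every line induces the identity. -/
theorem eq_one_of_lines (B : GL (Fin n) F) (τ : F ≃+* F) [Finite F]
    (h : ∀ v, ∃ b : F, semiVec B τ v = b • v) : semiAut B τ = 1 := by
  have hP : ∀ P, semiPt B τ P = P := fun P => by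
    induction P using Projectivization.ind with
    | _ v hv =>
      obtain ⟨b, hb⟩ := h v
      rw [semiPt_mk]
      exact mk_congr _ _ b hb.symm
  refine MulEquiv.ext fun g => eq_of_smul_eq_smul (α := Pt F n) fun P => ?_
  have := semiPt_equivariant B τ g P
  rw [hP, hP] at this
  exact this.symm

end CfsgLib.KnownC.AutPSL.Balance
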