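import Cfsg.Agent.Lib.KnownC.AutPSL.Balance.Common

/-!
# Automorphisms centralising a projective orthogonal group

An automorphism of odd order of `PSL_n(F)` fixing the classes of the determinant one isometries, with entries fixed
by `σ`, of a diagonal form is trivial.
-/

set_option autoImplicit false
set_option linter.unusedSectionVars false

namespace CfsgLib.KnownC.AutPSL.Balance

open Matrix

variable {F : Type*} [Field F] {n : ℕ}

local notation "Mn" => Matrix (Fin n) (Fin n) F
local notation "Vn" => Fin n → F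
local notation "SLn" => Matrix.SpecialLinearGroup (Fin n) F
local notation "PSLn" => Matrix.ProjectiveSpecialLinearGroup (Fin n) F

/-- The reflection in `u` for the diagonal form `d`. -/
def dRefl (d u : Vn) : Mn := 1 + Matrix.vecMulVec (-(2 / (u ⬝ᵥ (d * u))) • u) (d * u)

theorem dRefl_mulVec (d u x : Vn) : dRefl d u *ᵥ x = x - (2 / (u ⬝ᵥ (d * u)) * ((d * u) ⬝ᵥ x)) • u := by
  rw [dRefl, Matrix.add_mulVec, Matrix.one_mulVec, Matrix.vecMulVec_mulVec]
  ext i
  simp
  ring

theorem dot_swap (d u v : Vn) : (d * u) ⬝ᵥ v = u ⬝ᵥ (d * v) := by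
  simp only [dotProduct, Pi.mul_apply]
  exact Finset.sum_congr rfl fun i _ => by ring

theorem dot_symm (d u v : Vn) : u ⬝ᵥ (d * v) = v ⬝ᵥ (d * u) := by rw [← dot_swap, dotProduct_comm]

theorem dRefl_invol (d : Vn) {u : Vn} (hu : u ⬝ᵥ (d * u) ≠ 0) : dRefl d u * dRefl d u = 1 :=
  Matrix.ext_of_mulVec_single fun i => by
    rw [← Matrix.mulVec_mulVec, Matrix.one_mulVec, dRefl_mulVec, dRefl_mulVec, dotProduct_sub, dotProduct_smul,
      smul_eq_mul, dot_swap d u u]
    ext k
    simp
    field_simp
    ring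

theorem dRefl_comm (d : Vn) {u w : Vn} (h : u ⬝ᵥ (d * w) = 0) : dRefl d u * dRefl d w = dRefl d w * dRefl d u :=
  Matrix.ext_of_mulVec_single fun i => by
    simp only [← Matrix.mulVec_mulVec, dRefl_mulVec, dotProduct_sub, dotProduct_smul, smul_eq_mul]
    rw [dot_swap d u w, h, dot_swap d w u, dot_symm d w u, h]
    ext k
    simp
    ring

theorem dRefl_det (d : Vn) {u : Vn} (hu : u ⬝ᵥ (d * u) ≠ 0) : (dRefl d u).det = -1 := by
  rw [dRefl, Matrix.vecMulVec_eq Unit, Matrix.det_one_add_replicateCol_mul_replicateRow, dotProduct_smul,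
    dot_swap, smul_eq_mul, neg_mul, div_mul_cancel₀ _ hu]
  ring

theorem dRefl_isom (d : Vn) {u : Vn} (hu : u ⬝ᵥ (d * u) ≠ 0) :
    (dRefl d u)ᵀ * Matrix.diagonal d * dRefl d u = Matrix.diagonal d := by
  have h1 : Matrix.diagonal d * dRefl d u = (dRefl d u)ᵀ * Matrix.diagonal d := by
    ext i j
    rw [Matrix.diagonal_mul, Matrix.mul_diagonal]
    simp only [dRefl, Matrix.transpose_apply, Matrix.add_apply, Matrix.vecMulVec_apply, Pi.smul_apply, Pi.mul_apply,
      smul_eq_mul, Matrix.one_apply]
    rcases eq_or_ne i j with rfl | hij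
    · ring
    · simp [hij, hij.symm]; ring
  rw [← h1, Matrix.mul_assoc, dRefl_invol d hu, Matrix.mul_one]

theorem dRefl_map (σ : F ≃+* F) (d u : Vn) (hd : ∀ i, σ (d i) = d i) (hu : ∀ i, σ (u i) = u i) :
    (dRefl d u).map σ = dRefl d u := by
  have h2 : σ 2 = 2 := map_ofNat σ 2
  have hQ : σ (u ⬝ᵥ (d * u)) = u ⬝ᵥ (d * u) := by
    simp only [dotProduct, Pi.mul_apply, map_sum, map_mul, hd, hu]
  ext i j
  simp only [dRefl, Matrix.map_apply, Matrix.add_apply, Matrix.vecMulVec_apply, Pi.smul_apply, Pi.mul_apply,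
    smul_eq_mul, map_add, map_mul, map_neg, map_div₀, h2, hQ, hd, hu, Matrix.one_apply]
  split_ifs <;> simp

/-- The vector with one non-zero coordinate. -/
abbrev ev (i : Fin n) : Vn := Pi.single i 1

theorem dot_ev (d : Vn) (i : Fin n) (v : Vn) : ev i ⬝ᵥ (d * v) = d i * v i := by
  rw [single_dotProduct, one_mul, Pi.mul_apply]

theorem semiVec_ev (B : GL (Fin n) F) (τ : F ≃+* F) (i : Fin n) :
    semiVec B τ (ev i) = fun k => (B : Mn) k i := by
  rw [semiVec_apply, show (fun j => τ (ev (F := F) i j)) = ev i from funext fun j => by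
    rcases eq_or_ne j i with rfl | h <;> simp [ev, *]]
  funext k
  simp [ev, Matrix.mulVec_single_one]

variable [Fintype F]

/-- An automorphism of odd order centralising the rational isometries of a diagonal form. -/
theorem diag_fix (hn : 3 ≤ n) (h2 : (2 : F) ≠ 0) (σ : F ≃+* F) (hσ : orderOf σ ∣ 2) (d : Vn) (hd0 : ∀ i, d i ≠ 0)
    (hd : ∀ i, σ (d i) = d i) (m : MulAut PSLn) (hm : Odd (orderOf m))
    (hfix : ∀ s : SLn, (s : Mn).map σ = (s : Mn) → (s : Mn)ᵀ * Matrix.diagonal d * (s : Mn) = Matrix.diagonal d →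
      m (QuotientGroup.mk s) = QuotientGroup.mk s) : m = 1 := by
  obtain ⟨B, τ, rfl⟩ := semi_of_odd (by omega) m hm
  set T := semiVec B τ with hT
  -- vectors with two orthogonal companions span fixed lines
  have line : ∀ u w z : Vn, (∀ i, σ (u i) = u i) → (∀ i, σ (w i) = w i) → (∀ i, σ (z i) = z i) →
      u ⬝ᵥ (d * u) ≠ 0 → w ⬝ᵥ (d * w) ≠ 0 → z ⬝ᵥ (d * z) ≠ 0 → u ⬝ᵥ (d * w) = 0 → u ⬝ᵥ (d * z) = 0 →
      w ⬝ᵥ (d * z) = 0 → ∃ b : F, T u = b • u := by
    intro u w z hu hw hz hQu hQw hQz huw huz hwz
    have key : ∀ w : Vn, (∀ i, σ (w i) = w i) → w ⬝ᵥ (d * w) ≠ 0 → u ⬝ᵥ (d * w) = 0 →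
        ∃ a b : F, (2 : F) • T u = a • u + b • w := by
      intro w hw hQw huw
      have hinv : (dRefl d u * dRefl d w) * (dRefl d u * dRefl d w) = 1 := by
        conv_lhs => arg 2; rw [dRefl_comm d huw]
        rw [Matrix.mul_assoc, ← Matrix.mul_assoc (dRefl d w), dRefl_invol d hQw, Matrix.one_mul, dRefl_invol d hQu]
      let s : SLn := ⟨dRefl d u * dRefl d w, by rw [Matrix.det_mul, dRefl_det d hQu, dRefl_det d hQw]; ring⟩
      have hsmap : (s : Mn).map σ = (s : Mn) := by
        show (dRefl d u * dRefl d w).map σ = dRefl d u * dRefl d w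
        rw [Matrix.map_mul, dRefl_map σ d u hd hu, dRefl_map σ d w hd hw]
      have hsiso : (s : Mn)ᵀ * Matrix.diagonal d * (s : Mn) = Matrix.diagonal d := by
        show (dRefl d u * dRefl d w)ᵀ * _ * (dRefl d u * dRefl d w) = _
        calc (dRefl d u * dRefl d w)ᵀ * Matrix.diagonal d * (dRefl d u * dRefl d w)
            = (dRefl d w)ᵀ * ((dRefl d u)ᵀ * Matrix.diagonal d * dRefl d u) * dRefl d w := by
              simp only [Matrix.transpose_mul, Matrix.mul_assoc]
          _ = _ := by rw [dRefl_isom d hQu, dRefl_isom d hQw]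
      obtain ⟨c, hc⟩ := fix_mk B τ (hfix s hsmap hsiso)
      obtain rfl := sign_one (by omega) B τ hc hinv hm
      rw [one_smul] at hc
      have hcomm : ∀ x, T ((s : Mn) *ᵥ x) = (s : Mn) *ᵥ T x := fun x => by
        rw [hT, semiVec_apply, semiVec_apply, show (fun i => τ (((s : Mn) *ᵥ x) i)) =
          (s : Mn).map τ *ᵥ fun i => τ (x i) from funext fun i => RingHom.map_mulVec τ.toRingHom (s : Mn) x i,
          Matrix.mulVec_mulVec, hc, ← Matrix.mulVec_mulVec]
      have hsu : (s : Mn) *ᵥ u = (-1 : F) • u := by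
        show (dRefl d u * dRefl d w) *ᵥ u = _
        rw [← Matrix.mulVec_mulVec, dRefl_mulVec d w, dot_swap, dot_symm d w u, huw, mul_zero, zero_smul, sub_zero,
          dRefl_mulVec, dot_swap, div_mul_cancel₀ _ hQu]
        module
      have h1 := hcomm u
      rw [hsu, LinearMap.map_smulₛₗ, show (τ.toRingHom : F →+* F) (-1) = -1 by simp] at h1
      set v := T u
      have h1' : (dRefl d u * dRefl d w) *ᵥ v = (-1 : F) • v := h1.symm
      rw [← Matrix.mulVec_mulVec, dRefl_mulVec d u, dRefl_mulVec d w, dotProduct_sub, dotProduct_smul, dot_swap d u w,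
        huw, smul_zero, sub_zero] at h1'
      refine ⟨2 / (u ⬝ᵥ (d * u)) * ((d * u) ⬝ᵥ v), 2 / (w ⬝ᵥ (d * w)) * ((d * w) ⬝ᵥ v), ?_⟩
      linear_combination (norm := module) h1'
    obtain ⟨a, b, hab⟩ := key w hw hQw huw
    obtain ⟨a', b', hab'⟩ := key z hz hQz huz
    have h3 := congrArg ((d * w) ⬝ᵥ ·) (hab.symm.trans hab')
    simp only [dotProduct_add, dotProduct_smul, dot_swap, smul_eq_mul, hwz, dot_symm d w u, huw, mul_zero,
      add_zero, zero_add, mul_eq_zero, hQw, or_false] at h3
    rw [h3, zero_smul, add_zero] at hab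
    refine ⟨2⁻¹ * a, ?_⟩
    rw [mul_smul, ← hab, smul_smul, inv_mul_cancel₀ h2, one_smul]
  have hev : ∀ i k : Fin n, σ (ev (F := F) i k) = ev i k := fun i k => by
    rcases eq_or_ne k i with rfl | h <;> simp [ev, *]
  have hthird : ∀ i j : Fin n, ∃ k, k ≠ i ∧ k ≠ j := fun i j => by
    by_contra hcon
    push Not at hcon
    have : (Finset.univ : Finset (Fin n)) ⊆ {i, j} := fun k _ => by
      by_cases h : k = i
      · simp [h]
      · simp [hcon k h]
    have := (Finset.card_le_card this).trans Finset.card_le_two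
    simp at this; omega
  -- basis vectors
  have hcol : ∀ i : Fin n, ∃ b : F, T (ev i) = b • ev i := fun i => by
    obtain ⟨j, hji, -⟩ := hthird i i
    obtain ⟨k, hki, hkj⟩ := hthird i j
    exact line (ev i) (ev j) (ev k) (hev i) (hev j) (hev k) (by simp [dot_ev, hd0]) (by simp [dot_ev, hd0])
      (by simp [dot_ev, hd0]) (by simp [dot_ev, hji.symm]) (by simp [dot_ev, hki.symm]) (by simp [dot_ev, hkj.symm])
  choose b hb using hcol
  have hb0 : ∀ i, b i ≠ 0 := fun i h0 => by
    have := semiVec_injective B τ (a₁ := ev i) (a₂ := 0) (by rw [map_zero, ← hT, hb, h0, zero_smul])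
    simpa [ev] using congrFun this i
  -- multipliers
  have hpair : ∀ i j, i ≠ j → ∀ a, σ a = a → τ a * b j = a * b i := by
    intro i j hij a ha
    obtain ⟨k, hki, hkj⟩ := hthird i j
    have e1 : ∀ c : F, T (c • ev j) = (τ c * b j) • ev j := fun c => by
      rw [hT, LinearMap.map_smulₛₗ, ← hT, hb, smul_smul]; rfl
    have hs : ∀ (c : F) (l : Fin n), σ c = c → ∀ t, σ ((c • ev (F := F) l) t) = (c • ev (F := F) l) t := fun c l hc t => by
      simp [map_mul, hc, hev]
    by_cases hQ : d i + a * a * d j = 0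
    · -- a triple
      set x : Vn := ev i + a • ev j with hx
      set y : Vn := ev i - a • ev j with hy
      set u : Vn := x + ev k with hu
      set w : Vn := (-d k) • y + (2 * d i) • ev k with hw
      set z : Vn := (2 * d i) • x + (-d k) • y + (2 * d i) • ev k with hz
      have hx' : ∀ t, σ (x t) = x t := fun t => by simp [hx, map_add, map_mul, ha, hev]
      have hy' : ∀ t, σ (y t) = y t := fun t => by simp [hy, map_sub, map_mul, ha, hev]
      have h2σ : σ 2 = 2 := map_ofNat σ 2
      obtain ⟨c, hc⟩ := line u w z (fun t => by simp [hu, map_add, hx', hev])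
        (fun t => by simp [hw, map_add, map_mul, hy', hev, hd, h2σ])
        (fun t => by simp [hz, map_add, map_mul, hx', hy', hev, hd, h2σ])
        (by
          simp [hu, hx, dot_ev, add_dotProduct, hij, hij.symm, hki, hki.symm, hkj, hkj.symm]
          intro h0
          exact hd0 k (by linear_combination h0 - hQ))
        (by
          simp [hw, hy, dot_ev, add_dotProduct, sub_dotProduct, hij, hij.symm, hki, hki.symm, hkj, hkj.symm]
          intro h0
          have : (4 * (d i * d i)) * d k = 0 := by linear_combination h0 - (d k * d k) * hQ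
          rcases mul_eq_zero.1 this with h | h
          · rcases mul_eq_zero.1 h with h | h
            · exact h2 (mul_self_eq_zero.1 (show (2 : F) * 2 = 0 by linear_combination h))
            · exact hd0 i (mul_self_eq_zero.1 h)
          · exact hd0 k h)
        (by
          simp [hz, hx, hy, dot_ev, add_dotProduct, sub_dotProduct, hij, hij.symm, hki, hki.symm, hkj, hkj.symm]
          intro h0
          have : (4 * (d i * d i)) * d k = 0 := by
            linear_combination -h0 + ((2 * d i + d k) ^ 2) * hQ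
          rcases mul_eq_zero.1 this with h | h
          · rcases mul_eq_zero.1 h with h | h
            · exact h2 (mul_self_eq_zero.1 (show (2 : F) * 2 = 0 by linear_combination h))
            · exact hd0 i (mul_self_eq_zero.1 h)
          · exact hd0 k h)
        (by
          simp [hu, hw, hx, hy, dot_ev, add_dotProduct, hij, hij.symm, hki, hki.symm, hkj, hkj.symm]
          linear_combination d k * hQ)
        (by
          simp [hu, hz, hx, hy, dot_ev, add_dotProduct, hij, hij.symm, hki, hki.symm, hkj, hkj.symm]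
          linear_combination (2 * d i + d k) * hQ)
        (by
          simp [hw, hz, hx, hy, dot_ev, add_dotProduct, sub_dotProduct, hij, hij.symm, hki, hki.symm, hkj, hkj.symm]
          linear_combination (d k * (2 * d i + d k)) * hQ)
      rw [hu, hx, map_add, map_add, e1, hb i, hb k] at hc
      have h1 := congrFun hc i
      have h3 := congrFun hc j
      simp [hij, hij.symm, hki, hki.symm, hkj, hkj.symm] at h1 h3
      rw [h3, h1]; ring
    · obtain ⟨c, hc⟩ := line (ev i + a • ev j) ((a * d j) • ev i - d i • ev j) (ev k)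
        (fun t => by simp [map_add, map_mul, ha, hev]) (fun t => by simp [map_sub, map_mul, ha, hev, hd]) (hev k)
        (by simp [dot_ev, add_dotProduct, hij, hij.symm]; intro h0; exact hQ (by linear_combination h0))
        (by
          simp [dot_ev, sub_dotProduct, hij, hij.symm]
          intro h0
          have : d i * d j * (d i + a * a * d j) = 0 := by linear_combination h0
          simp [hd0, hQ] at this)
        (by simp [dot_ev, hd0])
        (by simp [dot_ev, add_dotProduct, hij, hij.symm]; ring)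
        (by simp [dot_ev, add_dotProduct, hki.symm, hkj.symm])
        (by simp [dot_ev, sub_dotProduct, hki.symm, hkj.symm])
      rw [map_add, e1, hb i] at hc
      have h1 := congrFun hc i
      have h3 := congrFun hc j
      simp [hij, hij.symm] at h1 h3
      rw [h3, h1]; ring
  let i0 : Fin n := ⟨0, by omega⟩
  have hbe : ∀ j, b j = b i0 := fun j => by
    rcases eq_or_ne j i0 with rfl | hj
    · rfl
    simpa using hpair i0 j hj.symm 1 (map_one σ)
  have hτ : ∀ a, σ a = a → τ a = a := fun a ha => by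
    have := hpair i0 ⟨1, by omega⟩ (by simp [i0, Fin.ext_iff]) a ha
    rw [hbe ⟨1, _⟩] at this
    exact mul_right_cancel₀ (hb0 i0) this
  have hτ1 : τ = 1 := by
    haveI : Finite (F ≃+* F) := Finite.of_injective (fun g : F ≃+* F => (g : F → F)) DFunLike.coe_injective
    have hk : τ ^ orderOf (semiAut B τ) = 1 := by
      have h := pow_orderOf_eq_one (semiAut B τ)
      rw [semiAut_pow] at h
      exact (semi_eq_one (by omega) h).1
    exact CfsgLib.KnownC.AutPSU.Balance.eq_one_of_zpowers
      (CfsgLib.KnownC.AutPSU.Balance.zpowers_of_fix σ τ hτ) hk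
      ((Nat.coprime_two_right.2 hm).coprime_dvd_right hσ)
  subst hτ1
  rw [show B = scl (Units.mk0 (b i0) (hb0 i0)) from Units.ext (by
    rw [scl_coe, Units.val_mk0]
    ext k l
    have := congrFun (hb l) k
    rw [hT, semiVec_ev, hbe] at this
    exact this.trans (by rw [Matrix.smul_apply, Pi.smul_apply, Matrix.one_apply, ev, Pi.single_apply]))]
  exact semiAut_scl _

end CfsgLib.KnownC.AutPSL.Balance
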