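import Cfsg.Agent.Lib.KnownC.AutPSL.Balance.Common
import Cfsg.Agent.Lib.Classical.SLBasic
import Cfsg.Agent.Lib.Classical.SLOrders
import Mathlib.GroupTheory.Perm.Fin

/-!
# The centraliser of a field automorphism of `PSL_n`
-/

set_option autoImplicit false
set_option linter.unusedSectionVars false

namespace CfsgLib.KnownC.AutPSL.Balance

open Matrix
open CfsgLib.KnownC.AutPSU.Balance (fixPts)

variable {F : Type*} [Field F] {n : ℕ}

local notation "Mn" => Matrix (Fin n) (Fin n) F
local notation "SLn" => Matrix.SpecialLinearGroup (Fin n) F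
local notation "PSLn" => Matrix.ProjectiveSpecialLinearGroup (Fin n) F

variable (σ : F ≃+* F)

local notation "SL₀" => Matrix.SpecialLinearGroup (Fin n) (fixField σ)

theorem map_base (s : SL₀) :
    semiSL (1 : GL (Fin n) F) σ (Matrix.SpecialLinearGroup.map (fixField σ).subtype s) =
      Matrix.SpecialLinearGroup.map (fixField σ).subtype s := Subtype.ext (by
  rw [semiSL_coe, inv_one, Units.val_one, Matrix.one_mul, Matrix.mul_one]
  ext i j
  exact (s i j).2)

/-- The rational points in the fixed points. -/
def baseP : SL₀ →* fixPts (semiAut (1 : GL (Fin n) F) σ) :=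
  ((QuotientGroup.mk' (Subgroup.center SLn)).comp (Matrix.SpecialLinearGroup.map (fixField σ).subtype)).codRestrict _
    fun s => by
      show semiAut (1 : GL (Fin n) F) σ (QuotientGroup.mk _) = _
      rw [semiAut_mk, map_base]
      rfl

theorem baseP_val (s : SL₀) : ((baseP σ s : fixPts (semiAut (1 : GL (Fin n) F) σ)) : PSLn) =
    QuotientGroup.mk (Matrix.SpecialLinearGroup.map (fixField σ).subtype s) := rfl

theorem baseP_eq_one_iff (hn : 1 ≤ n) (s : SL₀) : baseP σ s = 1 ↔ s ∈ Subgroup.center SL₀ := by
  rw [Subtype.ext_iff, OneMemClass.coe_one, baseP_val, QuotientGroup.eq_one_iff]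
  constructor
  · intro h
    obtain ⟨c, hc⟩ := center_scalar h
    refine mem_center_of_scalar (c := s ⟨0, hn⟩ ⟨0, hn⟩) (Matrix.ext fun i j => Subtype.ext ?_)
    have hij : ((s i j : fixField σ) : F) = (c • (1 : Mn)) i j := congrFun (congrFun hc i) j
    have h00 : ((s ⟨0, hn⟩ ⟨0, hn⟩ : fixField σ) : F) = (c • (1 : Mn)) ⟨0, hn⟩ ⟨0, hn⟩ :=
      congrFun (congrFun hc ⟨0, hn⟩) ⟨0, hn⟩
    rw [Matrix.smul_apply, Matrix.one_apply_eq, smul_eq_mul, mul_one] at h00
    rw [hij, ← h00, Matrix.smul_apply, Matrix.smul_apply, Matrix.one_apply, Matrix.one_apply]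
    split_ifs <;> simp
  · intro h
    obtain ⟨c, hc⟩ := center_scalar h
    refine mem_center_of_scalar (c := (c : F)) (Matrix.ext fun i j => ?_)
    show ((s i j : fixField σ) : F) = _
    rw [show s i j = (c • (1 : Matrix (Fin n) (Fin n) (fixField σ))) i j from congrFun (congrFun hc i) j]
    simp only [Matrix.smul_apply, Matrix.one_apply]
    split_ifs <;> simp

theorem exists_pre (u : SLn) (hu : ∀ i j, σ (u i j) = u i j) :
    ∃ s : SL₀, Matrix.SpecialLinearGroup.map (fixField σ).subtype s = u := by
  refine ⟨⟨Matrix.of fun i j => ⟨u i j, hu i j⟩, (fixField σ).subtype.injective ?_⟩, Subtype.ext rfl⟩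
  rw [RingHom.map_det, map_one]
  exact u.2

theorem tv_coe {i j : Fin n} (hij : i ≠ j) (a : fixField σ) :
    ((Matrix.SpecialLinearGroup.map (fixField σ).subtype (Matrix.SpecialLinearGroup.transvection hij a) : SLn) : Mn) =
      1 + Matrix.single i j (a : F) := by
  show (((Matrix.SpecialLinearGroup.transvection hij a : SL₀) : Matrix (Fin n) (Fin n) (fixField σ))).map _ = _
  rw [Matrix.SpecialLinearGroup.transvection_coe]
  ext k l
  simp only [Matrix.map_apply, Matrix.add_apply, map_add, Matrix.one_apply, Matrix.single_apply]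
  split_ifs <;> simp

/-- The inverse transpose in dimension two. -/
theorem it_two : ∃ w : GL (Fin 2) F, (itAut : MulAut (Matrix.ProjectiveSpecialLinearGroup (Fin 2) F)) =
    semiAut w (RingEquiv.refl F) := by
  let W : Matrix (Fin 2) (Fin 2) F := !![0, 1; -1, 0]
  have hW : W.det ≠ 0 := by simp [W, Matrix.det_fin_two]
  refine ⟨Matrix.GeneralLinearGroup.mkOfDetNeZero W hW, MulEquiv.ext fun x => ?_⟩
  induction x using QuotientGroup.induction_on with
  | _ s =>
    rw [semiAut_mk]
    show (QuotientGroup.mk (itSL s) : Matrix.ProjectiveSpecialLinearGroup (Fin 2) F) = _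
    refine congrArg _ (Subtype.ext ?_)
    rw [semiSL_coe, Units.eq_mul_inv_iff_mul_eq]
    show ((s⁻¹ : Matrix.SpecialLinearGroup (Fin 2) F) : Matrix (Fin 2) (Fin 2) F)ᵀ * W = W * _
    rw [Matrix.SpecialLinearGroup.coe_inv, Matrix.adjugate_fin_two]
    ext i j
    fin_cases i <;> fin_cases j <;> simp [W, Matrix.mul_apply, Fin.sum_univ_two]

variable [Fintype F]

/-- Automorphisms of order prime to `p` centralising the rational transvections. -/
theorem field_fix (hn : 2 ≤ n) {p : ℕ} (hσ : orderOf σ = p) (m : MulAut PSLn) (hm : (orderOf m).Coprime p)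
    (hmfix : ∀ (i j : Fin n) (hij : i ≠ j) (a : fixField σ),
      m (baseP σ (Matrix.SpecialLinearGroup.transvection hij a)) =
        baseP σ (Matrix.SpecialLinearGroup.transvection hij a)) : m = 1 := by
  classical
  obtain ⟨B, τ, h | h⟩ : ∃ (B : GL (Fin n) F) (τ : F ≃+* F), m = semiAut B τ ∨ 3 ≤ n ∧ m = semiAut B τ * itAut := by
    obtain ⟨B, τ, h | h⟩ := exists_semi hn m
    · exact ⟨B, τ, Or.inl h⟩
    · rcases Nat.lt_or_ge n 3 with h3 | h3
      · obtain rfl : n = 2 := by omega
        obtain ⟨w, hw⟩ := it_two (F := F)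
        exact ⟨_, _, Or.inl (h.trans (by rw [hw, semiAut_mul]))⟩
      · exact ⟨B, τ, Or.inr ⟨h3, h⟩⟩
  · subst h
    have key : ∀ (i j : Fin n), i ≠ j → ∀ a : fixField σ, (B : Mn) * Matrix.single i j (τ (a : F)) =
        Matrix.single i j (a : F) * B := by
      intro i j hij a
      rcases eq_or_ne a 0 with rfl | ha
      · simp
      obtain ⟨c, hc⟩ := fix_mk B τ (hmfix i j hij a)
      rw [tv_coe, Matrix.map_add _ (map_add τ), Matrix.map_one _ (map_zero τ) (map_one τ), Matrix.map_single] at hc
      exact (unip_comm B hc (Matrix.single_mul_single_of_ne (τ (a : F)) i j i hij.symm _)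
        (Matrix.single_mul_single_of_ne (a : F) i j i hij.symm _) fun h0 => ha (Subtype.ext (by
          have := congrFun (congrFun h0 i) j
          simpa using this))).2
    obtain ⟨b, hb⟩ := Matrix.mem_range_scalar_of_commute_single (M := (B : Mn)) fun i j hij => by
      have := key i j hij 1
      rw [show ((1 : fixField σ) : F) = 1 from rfl, map_one] at this
      exact this.symm
    have hb' : (B : Mn) = b • (1 : Mn) := by rw [← hb, Matrix.scalar_apply, Matrix.smul_one_eq_diagonal]
    have hb0 : b ≠ 0 := fun e => B.det_ne_zero (by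
      haveI : Nonempty (Fin n) := ⟨⟨0, by omega⟩⟩
      rw [hb', e, zero_smul, Matrix.det_zero])
    have hτ : ∀ a, σ a = a → τ a = a := fun a ha => by
      have h1 := congrFun (congrFun (key ⟨0, by omega⟩ ⟨1, by omega⟩ (by simp [Fin.ext_iff]) ⟨a, ha⟩) ⟨0, by omega⟩)
        ⟨1, by omega⟩
      rw [hb'] at h1
      simp at h1
      exact mul_left_cancel₀ hb0 (h1.trans (mul_comm _ _))
    have hτ1 : τ = 1 := by
      haveI : Finite (F ≃+* F) := Finite.of_injective (fun g : F ≃+* F => (g : F → F)) DFunLike.coe_injective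
      have hk : τ ^ orderOf (semiAut B τ) = 1 := by
        have h := pow_orderOf_eq_one (semiAut B τ)
        rw [semiAut_pow] at h
        exact (semi_eq_one hn h).1
      exact CfsgLib.KnownC.AutPSU.Balance.eq_one_of_zpowers
        (CfsgLib.KnownC.AutPSU.Balance.zpowers_of_fix σ τ hτ) hk (hσ.symm ▸ hm)
    subst hτ1
    rw [show B = scl (Units.mk0 b hb0) from Units.ext (by rw [scl_coe, hb', Units.val_mk0])]
    exact semiAut_scl _
  · obtain ⟨h3, rfl⟩ := h
    exfalso
    have key : ∀ (i j : Fin n), i ≠ j → (B : Mn) * -Matrix.single j i (1 : F) = Matrix.single i j (1 : F) * B := by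
      intro i j hij
      set t := Matrix.SpecialLinearGroup.map (fixField σ).subtype (Matrix.SpecialLinearGroup.transvection hij 1)
      have ht : ((t : SLn) : Mn) = 1 + Matrix.single i j 1 := tv_coe σ hij 1
      have h1 : semiAut B τ (QuotientGroup.mk (itSL t)) = QuotientGroup.mk t := hmfix i j hij 1
      have hit : ((itSL t : SLn) : Mn) = 1 + -Matrix.single j i 1 := by
        show ((t⁻¹ : SLn) : Mn)ᵀ = _
        have hinv : ((t⁻¹ : SLn) : Mn) = 1 + -Matrix.single i j 1 := by
          refine left_inv_eq_right_inv (a := ((t : SLn) : Mn))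
            (by rw [← Matrix.SpecialLinearGroup.coe_mul, inv_mul_cancel]; rfl) ?_
          rw [ht, Matrix.add_mul, Matrix.one_mul, Matrix.mul_add, Matrix.mul_one, Matrix.mul_neg,
            Matrix.single_mul_single_of_ne (1 : F) i j i hij.symm, neg_zero, add_zero, neg_add_cancel_right]
        rw [hinv, Matrix.transpose_add, Matrix.transpose_one, Matrix.transpose_neg, Matrix.transpose_single]
      rw [semiAut_mk, eq_comm, QuotientGroup.eq] at h1
      obtain ⟨c, hc⟩ := center_scalar h1
      have e : ((semiSL B τ (itSL t) : SLn) : Mn) = c • (t : Mn) := by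
        rw [← mul_inv_cancel_left t (semiSL B τ (itSL t)), Matrix.SpecialLinearGroup.coe_mul, hc, Matrix.mul_smul,
          Matrix.mul_one]
      rw [semiSL_coe, hit, ht, Matrix.map_add _ (map_add τ), Matrix.map_one _ (map_zero τ) (map_one τ),
        Units.mul_inv_eq_iff_eq_mul, Matrix.smul_mul] at e
      rw [show (-Matrix.single j i (1 : F)).map τ = -Matrix.single j i 1 by
        ext a b; simp [Matrix.single_apply, apply_ite τ]] at e
      exact (unip_comm B e (by rw [neg_mul_neg, Matrix.single_mul_single_of_ne (1 : F) j i j hij])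
        (Matrix.single_mul_single_of_ne (1 : F) i j i hij.symm _) fun h0 => one_ne_zero (α := F) (by
          have := congrFun (congrFun h0 i) j
          simpa using this)).2
    refine B.det_ne_zero (Matrix.det_eq_zero_of_row_eq_zero (A := (B : Mn)) ⟨0, by omega⟩ fun l => ?_)
    obtain ⟨i, hi0, hil⟩ : ∃ i : Fin n, i ≠ ⟨0, by omega⟩ ∧ i ≠ l := by
      by_cases hl : (l : ℕ) = 1
      · exact ⟨⟨2, by omega⟩, by simp [Fin.ext_iff], by simp [Fin.ext_iff, hl]⟩
      · exact ⟨⟨1, by omega⟩, by simp [Fin.ext_iff], by simp [Fin.ext_iff]; omega⟩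
    have := congrFun (congrFun (key i ⟨0, by omega⟩ hi0) i) l
    rw [Matrix.single_mul_apply_same, one_mul, Matrix.mul_neg, Matrix.neg_apply,
      Matrix.mul_single_apply_of_ne (hbj := hil.symm), neg_zero] at this
    exact this.symm

/-- The prime divides the order of the image of the rational points when it divides that of the fixed points. -/
theorem exists_order_p (hn : 2 ≤ n) {p : ℕ} (hp : p.Prime) (hp2 : p = 2 → (2 : F) ≠ 0)
    (hdiv : p ∣ Nat.card (fixPts (semiAut (1 : GL (Fin n) F) σ))) :
    ∃ s : SL₀, orderOf (baseP σ s) = p := by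
  classical
  haveI : Fact p.Prime := ⟨hp⟩
  rcases Nat.lt_or_ge n p with hnp | hpn
  · haveI : Finite PSLn := Quotient.finite _
    obtain ⟨u, hu⟩ := exists_prime_orderOf_dvd_card' p hdiv
    obtain ⟨s, hsu⟩ := QuotientGroup.mk_surjective (u : PSLn)
    have h1 : semiAut (1 : GL (Fin n) F) σ (QuotientGroup.mk s) = QuotientGroup.mk s := hsu ▸ u.2
    obtain ⟨c, hc⟩ := fix_mk _ _ h1
    rw [Units.val_one, Matrix.one_mul, Matrix.mul_one] at hc
    have hcn : c ^ n = 1 := by
      have := congrArg Matrix.det hc
      rwa [Matrix.det_smul, Fintype.card_fin, sigma_det, s.2, mul_one, eq_comm] at this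
    have hpow : ∀ j : ℕ, ((s ^ j : SLn) : Mn).map σ = c ^ j • ((s ^ j : SLn) : Mn) := fun j => by
      induction j with
      | zero => simp
      | succ j ih =>
        rw [pow_succ, Matrix.SpecialLinearGroup.coe_mul, Matrix.map_mul, ih, hc, Matrix.smul_mul, Matrix.mul_smul,
          smul_smul, pow_succ]
    obtain ⟨s₀, hs₀⟩ := exists_pre σ (s ^ n) fun i j => by
      have := congrFun (congrFun (hpow n) i) j
      rw [hcn, one_smul] at this
      exact this
    refine ⟨s₀, ?_⟩
    have he : baseP σ s₀ = u ^ n := Subtype.ext (by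
      rw [baseP_val, hs₀, SubmonoidClass.coe_pow, ← hsu]
      rfl)
    rw [he, Nat.Coprime.orderOf_pow, hu]
    rw [hu]
    exact (hp.coprime_iff_not_dvd).2 fun h => by have := Nat.le_of_dvd (by omega) h; omega
  rcases hp.eq_two_or_odd' with rfl | hodd
  · have h2 : (2 : fixField σ) ≠ 0 := fun e => hp2 rfl (congrArg (fixField σ).subtype e |>.trans (map_zero _) ▸
      (map_ofNat (fixField σ).subtype 2).symm)
    have hne : (-1 : fixField σ) ≠ 1 := fun e => h2 (by linear_combination -e)
    rcases Nat.lt_or_ge n 3 with h3 | h3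
    · obtain rfl : n = 2 := by omega
      let s : Matrix.SpecialLinearGroup (Fin 2) (fixField σ) :=
        ⟨(!![0, 1; -1, 0] : Matrix (Fin 2) (Fin 2) (fixField σ)), by simp [Matrix.det_fin_two]⟩
      refine ⟨s, orderOf_eq_prime ?_ fun h => ?_⟩
      · rw [← map_pow, baseP_eq_one_iff σ (by omega)]
        refine mem_center_of_scalar (c := -1) ?_
        rw [pow_two, Matrix.SpecialLinearGroup.coe_mul]
        ext i j
        fin_cases i <;> fin_cases j <;> simp [s, Matrix.mul_apply, Fin.sum_univ_two]
      · rw [baseP_eq_one_iff σ (by omega)] at h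
        obtain ⟨c, hc⟩ := center_scalar h
        have := congrFun (congrFun hc 0) 1
        simp [s] at this
    · let d : Fin n → fixField σ := fun i => if (i : ℕ) < 2 then -1 else 1
      have hdet : (Matrix.diagonal d).det = 1 := by
        rw [Matrix.det_diagonal, Finset.prod_eq_mul (⟨0, by omega⟩ : Fin n) ⟨1, by omega⟩ (by simp [Fin.ext_iff])
          (fun i _ hi => by
            simp [Fin.ext_iff] at hi
            simp [d]; omega) (by simp) (by simp)]
        simp [d]
      let s : SL₀ := ⟨Matrix.diagonal d, hdet⟩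
      refine ⟨s, orderOf_eq_prime ?_ fun h => ?_⟩
      · rw [← map_pow, show s ^ 2 = 1 from Subtype.ext (by
          rw [pow_two, Matrix.SpecialLinearGroup.coe_mul]
          show Matrix.diagonal d * Matrix.diagonal d = 1
          rw [Matrix.diagonal_mul_diagonal, ← Matrix.diagonal_one]
          congr 1; funext i; simp only [d]; split_ifs <;> simp), map_one]
      · rw [baseP_eq_one_iff σ (by omega)] at h
        obtain ⟨c, hc⟩ := center_scalar h
        have h0 := congrFun (congrFun hc ⟨0, by omega⟩) ⟨0, by omega⟩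
        have h2' := congrFun (congrFun hc ⟨2, by omega⟩) ⟨2, by omega⟩
        simp [s, d] at h0 h2'
        exact hne (h0.trans h2'.symm)
  · have hp3 : 3 ≤ p := by
      rcases hodd with ⟨j, rfl⟩
      have := hp.two_le; omega
    haveI : NeZero n := ⟨by omega⟩
    let i : Fin n := ⟨p - 1, by omega⟩
    set π := Fin.cycleRange i with hπ
    have hdet : (π.permMatrix (fixField σ)).det = 1 := by
      rw [Matrix.det_permutation, hπ, Fin.sign_cycleRange, Even.neg_one_pow (Nat.Odd.sub_odd hodd odd_one)]
      simp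
    have hord : orderOf π = p := by
      rw [← Equiv.Perm.lcm_cycleType, hπ, Fin.cycleType_cycleRange (by simp [i, Fin.ext_iff]; omega)]
      simp [i]; omega
    let s : SL₀ := ⟨π.permMatrix (fixField σ), hdet⟩
    have hpow : ∀ j : ℕ, ((s ^ j : SL₀) : Matrix (Fin n) (Fin n) (fixField σ)) =
        (π ^ j).permMatrix (fixField σ) := fun j => by
      induction j with
      | zero => simp
      | succ j ih =>
        rw [pow_succ, Matrix.SpecialLinearGroup.coe_mul, ih, pow_succ', Matrix.permMatrix_mul]
    refine ⟨s, orderOf_eq_prime ?_ fun h => ?_⟩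
    · rw [← map_pow, show s ^ p = 1 from Subtype.ext (by
        rw [hpow, ← hord, pow_orderOf_eq_one]; simp), map_one]
    · rw [baseP_eq_one_iff σ (by omega)] at h
      obtain ⟨c, hc⟩ := center_scalar h
      have hne : π ⟨0, by omega⟩ ≠ ⟨0, by omega⟩ := by
        rw [hπ, Fin.cycleRange_of_lt (by simp [i, Fin.lt_def]; omega)]
        simp [Fin.ext_iff, Fin.val_add, Nat.mod_eq_of_lt (by omega : 1 < n)]
      have := congrFun (congrFun hc ⟨0, by omega⟩) (π ⟨0, by omega⟩)
      rw [Matrix.smul_apply, Matrix.one_apply_ne hne.symm] at this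
      simp [s, Equiv.Perm.permMatrix, PEquiv.toMatrix_apply] at this

/-- A normal subgroup of small order is centralised by the elements of order `r`. -/
theorem centralised_small {G : Type*} [Group G] [Finite G] (M : Subgroup G) [M.Normal] {r : ℕ} (hr : r.Prime)
    (hM : Nat.card M = 1 ∨ (Nat.card M).Prime ∧ Nat.card M ≤ r) {t : G} (ht : t ^ r = 1) {x : G} (hx : x ∈ M) :
    Commute t x := by
  rcases hM with h1 | ⟨hprime, hle⟩
  · rw [Subgroup.eq_bot_of_card_eq M h1, Subgroup.mem_bot] at hx
    rw [hx]; exact Commute.one_right t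
  haveI := Fact.mk hprime
  haveI : IsCyclic M := isCyclic_of_prime_card rfl
  have h1 : MulAut.conjNormal (H := M) t = 1 := by
    rw [← orderOf_eq_one_iff]
    refine Nat.eq_one_of_dvd_coprimes (a := r) (b := Nat.card (MulAut M)) ?_
      (orderOf_dvd_of_pow_eq_one (by rw [← map_pow, ht, map_one])) (orderOf_dvd_natCard _)
    rw [IsCyclic.card_mulAut, Nat.totient_prime hprime]
    refine hr.coprime_iff_not_dvd.2 fun h => ?_
    have h2 := hprime.two_le
    have := Nat.le_of_dvd (by omega) h
    omega
  have h2 := congrArg (fun f : MulAut M => ((f ⟨x, hx⟩ : M) : G)) h1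
  simp only [MulAut.conjNormal_apply, MulAut.one_apply] at h2
  exact (mul_inv_eq_iff_eq_mul.1 h2 : t * x = x * t)

/-- The fixed points are not trivial. -/
theorem field_fix_ne_bot (hn : 2 ≤ n) : fixPts (semiAut (1 : GL (Fin n) F) σ) ≠ ⊥ := by
  intro h
  have hij : (⟨0, by omega⟩ : Fin n) ≠ ⟨1, by omega⟩ := by simp [Fin.ext_iff]
  have h1 : baseP σ (Matrix.SpecialLinearGroup.transvection hij 1) = 1 :=
    Subtype.ext (Subgroup.mem_bot.1 (h ▸ (baseP σ (Matrix.SpecialLinearGroup.transvection hij 1)).2))
  rw [baseP_eq_one_iff σ (by omega), Matrix.SpecialLinearGroup.transvection_mem_center_iff] at h1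
  exact one_ne_zero h1

/-- The core of the fixed point group is trivial when `p` divides its order. -/
theorem field_core_fix (hn : 2 ≤ n) {r : ℕ} [Fact r.Prime] [CharP F r] {p : ℕ} (hp : p.Prime) (hpr : p ≠ r)
    (hσ : orderOf σ = p) (hdiv : p ∣ Nat.card (fixPts (semiAut (1 : GL (Fin n) F) σ))) :
    Cfsg.pPrimeCore p (fixPts (semiAut (1 : GL (Fin n) F) σ)) = ⊥ := by
  classical
  haveI : Finite PSLn := Quotient.finite _
  have hr : r.Prime := Fact.out
  have hp2 : p = 2 → (2 : F) ≠ 0 := fun e h0 => by
    have := (CharP.cast_eq_zero_iff F r 2).1 (by exact_mod_cast h0)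
    exact hpr (e.trans ((Nat.prime_dvd_prime_iff_eq hr Nat.prime_two).1 this).symm)
  set L := fixPts (semiAut (1 : GL (Fin n) F) σ) with hL
  set D := Cfsg.pPrimeCore p L with hD
  haveI : D.Normal := Cfsg.pPrimeCore_normal p _
  have hcop : (Nat.card D).Coprime p := CfsgLib.Solvable.Cores.coprime_card_pPrimeCore p
  set π₀ := baseP (n := n) σ with hπ₀
  obtain ⟨s₁, hs₁⟩ := exists_order_p σ hn hp hp2 hdiv
  letI : Fintype (fixField σ) := Fintype.ofFinite _
  -- central elements of the core are trivial
  have hcentral : ∀ d ∈ D, (∀ (i j : Fin n) (hij : i ≠ j) (a : fixField σ),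
      Commute (π₀ (Matrix.SpecialLinearGroup.transvection hij a)) d) → d = 1 := by
    intro d hd hc
    refine Subtype.ext (conj_injective hn ((field_fix σ hn hσ (MulAut.conj (d : PSLn)) ?_ fun i j hij a => ?_).trans
      (map_one MulAut.conj).symm))
    · rw [orderOf_injective _ (conj_injective hn), Subgroup.orderOf_coe, ← Subgroup.orderOf_mk d hd]
      exact hcop.coprime_dvd_left (orderOf_dvd_natCard _)
    · rw [MulAut.conj_apply, mul_inv_eq_iff_eq_mul]
      exact congrArg (fun x : L => (x : PSLn)) (hc i j hij a).eq.symm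
  -- the image of the rational points meets the core trivially
  have hmeet : ∀ s, π₀ s ∈ D → π₀ s = 1 := by
    intro s hsD
    let ψ : Matrix.ProjectiveSpecialLinearGroup (Fin n) (fixField σ) →* L := QuotientGroup.lift _ π₀ fun z hz =>
      (baseP_eq_one_iff σ (by omega) z).2 hz
    have hψinj : Function.Injective ψ := (injective_iff_map_eq_one _).2 fun x => by
      induction x using QuotientGroup.induction_on with
      | _ t => exact fun h => (QuotientGroup.eq_one_iff t).2 ((baseP_eq_one_iff σ (by omega) t).1 h)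
    haveI : (D.comap ψ).Normal := inferInstance
    by_cases hex : n = 2 ∧ Fintype.card (fixField σ) ≤ 3
    · obtain ⟨rfl, hle⟩ := hex
      haveI : Finite (Matrix.ProjectiveSpecialLinearGroup (Fin 2) (fixField σ)) := Quotient.finite _
      set q₀ := Fintype.card (fixField σ) with hq₀
      have h2q : 2 ≤ q₀ := Fintype.one_lt_card
      haveI : CharP (fixField σ) r := (fixField σ).subtype.charP (fixField σ).subtype.injective r
      have hrq : r = q₀ := by
        obtain ⟨k, -, hk⟩ := FiniteField.card (fixField σ) r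
        have hqprime : q₀.Prime := by
          rcases (show q₀ = 2 ∨ q₀ = 3 by omega) with e | e <;> rw [e] <;> norm_num
        exact (Nat.prime_dvd_prime_iff_eq hr hqprime).1 (hq₀ ▸ hk ▸ dvd_pow_self r k.pos.ne')
      set M := D.comap ψ with hMdef
      have hM1 : (Nat.card M).Coprime p := hcop.coprime_dvd_left (by
        rw [← Subgroup.card_map_of_injective (f := ψ) hψinj]
        exact Subgroup.card_dvd_of_le (Subgroup.map_comap_le ψ _))
      have hM2 := Subgroup.card_subgroup_dvd_card M
      have hp3 : p ∣ Nat.card (Matrix.ProjectiveSpecialLinearGroup (Fin 2) (fixField σ)) := by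
        have : orderOf (QuotientGroup.mk s₁ : Matrix.ProjectiveSpecialLinearGroup (Fin 2) (fixField σ)) = p :=
          (orderOf_injective ψ hψinj _).symm.trans hs₁
        exact this ▸ orderOf_dvd_natCard _
      have hsl := CfsgLib.Classical.card_sl_mul (F := fixField σ) hq₀.symm 2 (by omega)
      have hpsl := CfsgLib.Classical.card_psl_mul (F := fixField σ) hq₀.symm 2 (by omega)
      rw [Fin.prod_univ_two] at hsl
      have hMcard : Nat.card M = 1 ∨ (Nat.card M).Prime ∧ Nat.card M ≤ r := by
        rcases (show q₀ = 2 ∨ q₀ = 3 by omega) with e | e <;> rw [e] at hsl hpsl <;>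
          norm_num [-Nat.card_eq_fintype_card] at hsl hpsl
        · have hcard : Nat.card (Matrix.ProjectiveSpecialLinearGroup (Fin 2) (fixField σ)) = 2 * 3 := by omega
          rw [hcard] at hM2 hp3
          obtain rfl : p = 3 := by
            rcases hp.dvd_mul.1 hp3 with h | h
            · exact absurd ((Nat.prime_dvd_prime_iff_eq hp Nat.prime_two).1 h) (hrq.trans e ▸ hpr)
            · exact (Nat.prime_dvd_prime_iff_eq hp Nat.prime_three).1 h
          rcases (Nat.dvd_prime Nat.prime_two).1 (hM1.dvd_of_dvd_mul_right hM2) with h | h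
          · exact Or.inl h
          · exact Or.inr ⟨by rw [h]; exact Nat.prime_two, by omega⟩
        · have hcard : Nat.card (Matrix.ProjectiveSpecialLinearGroup (Fin 2) (fixField σ)) = 3 * 2 ^ 2 := by omega
          rw [hcard] at hM2 hp3
          obtain rfl : p = 2 := by
            rcases hp.dvd_mul.1 hp3 with h | h
            · exact absurd ((Nat.prime_dvd_prime_iff_eq hp Nat.prime_three).1 h) (hrq.trans e ▸ hpr)
            · exact (Nat.prime_dvd_prime_iff_eq hp Nat.prime_two).1 (hp.dvd_of_dvd_pow h)
          rcases (Nat.dvd_prime Nat.prime_three).1 ((hM1.pow_right 2).dvd_of_dvd_mul_right hM2) with h | h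
          · exact Or.inl h
          · exact Or.inr ⟨by rw [h]; exact Nat.prime_three, by omega⟩
      refine hcentral _ hsD fun i j hij a => ?_
      have ht : (QuotientGroup.mk (Matrix.SpecialLinearGroup.transvection hij a) :
          Matrix.ProjectiveSpecialLinearGroup (Fin 2) (fixField σ)) ^ r = 1 := by
        have key : ∀ k : ℕ, (((Matrix.SpecialLinearGroup.transvection hij a) ^ k :
            Matrix.SpecialLinearGroup (Fin 2) (fixField σ)) : Matrix (Fin 2) (Fin 2) (fixField σ)) =
            1 + Matrix.single i j ((k : fixField σ) * a) := fun k => by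
          induction k with
          | zero => simp
          | succ k ih =>
            rw [pow_succ, Matrix.SpecialLinearGroup.coe_mul, ih, Matrix.SpecialLinearGroup.transvection_coe,
              Matrix.mul_add, Matrix.mul_one, Matrix.add_mul, Matrix.one_mul,
              Matrix.single_mul_single_of_ne _ i j i hij.symm, add_zero, add_assoc, ← Matrix.single_add,
              Nat.cast_succ, add_mul, one_mul]
        rw [← QuotientGroup.mk_pow, QuotientGroup.eq_one_iff]
        exact mem_center_of_scalar (c := 1) (by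
          rw [key, CharP.cast_eq_zero, zero_mul, Matrix.single_zero, add_zero, one_smul])
      exact (centralised_small M hr hMcard ht (x := QuotientGroup.mk s) hsD).map ψ
    · haveI : IsSimpleGroup (Matrix.ProjectiveSpecialLinearGroup (Fin n) (fixField σ)) :=
        CfsgLib.Classical.psl_fin_isSimpleGroup hn fun h => by
          by_contra h'
          exact hex ⟨h, by omega⟩
      rcases Subgroup.Normal.eq_bot_or_eq_top (H := D.comap ψ) inferInstance with hbot | htop
      · have : (QuotientGroup.mk s : Matrix.ProjectiveSpecialLinearGroup (Fin n) (fixField σ)) ∈ D.comap ψ := hsD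
        rw [hbot, Subgroup.mem_bot] at this
        show ψ (QuotientGroup.mk s) = 1
        rw [this, map_one]
      · exfalso
        have hmem : π₀ s₁ ∈ D := by
          have : (QuotientGroup.mk s₁ : Matrix.ProjectiveSpecialLinearGroup (Fin n) (fixField σ)) ∈ D.comap ψ :=
            htop ▸ Subgroup.mem_top _
          exact this
        have h1 := Nat.eq_one_of_dvd_coprimes hcop (Subgroup.orderOf_dvd_natCard D hmem) (by rw [hs₁])
        rw [hs₁] at h1
        exact hp.one_lt.ne' h1
  rw [eq_bot_iff]
  intro d hd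
  rw [Subgroup.mem_bot]
  refine hcentral d hd fun i j hij a => ?_
  set s := Matrix.SpecialLinearGroup.transvection hij a
  set b := Matrix.SpecialLinearGroup.map (fixField σ).subtype s with hb
  obtain ⟨u, hu⟩ := QuotientGroup.mk_surjective (d : PSLn)
  have hu1 : semiAut (1 : GL (Fin n) F) σ (QuotientGroup.mk u) = QuotientGroup.mk u := hu ▸ d.2
  rw [semiAut_mk, eq_comm, QuotientGroup.eq] at hu1
  set z := u⁻¹ * semiSL (1 : GL (Fin n) F) σ u with hzdef
  have hze : semiSL (1 : GL (Fin n) F) σ u = u * z := (mul_inv_cancel_left _ _).symm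
  have hfixb : semiSL (1 : GL (Fin n) F) σ (u * b * u⁻¹) = u * b * u⁻¹ := by
    rw [map_mul, map_mul, map_inv, hze, hb, map_base σ s, ← hb]
    have := Subgroup.mem_center_iff.1 hu1 b
    calc u * z * b * (u * z)⁻¹ = u * (z * b) * z⁻¹ * u⁻¹ := by group
      _ = _ := by rw [← this]; group
  obtain ⟨t, ht⟩ := exists_pre σ (u * b * u⁻¹) fun k l => by
    have := congrFun (congrFun (congrArg (fun x : SLn => (x : Mn)) hfixb) k) l
    simp only [semiSL_coe, inv_one, Units.val_one, Matrix.one_mul, Matrix.mul_one, Matrix.map_apply] at this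
    exact this
  have hconj : d * π₀ s * d⁻¹ = π₀ t := Subtype.ext (by
    show (d : PSLn) * QuotientGroup.mk b * (d : PSLn)⁻¹ =
      QuotientGroup.mk (Matrix.SpecialLinearGroup.map (fixField σ).subtype t)
    rw [ht, ← hu]
    rfl)
  have h1 : π₀ (t * s⁻¹) ∈ D := by
    rw [map_mul, map_inv, ← hconj, mul_assoc, mul_assoc]
    exact mul_mem hd (mul_assoc (π₀ s) _ _ ▸ (Cfsg.pPrimeCore_normal p _).conj_mem _ (inv_mem hd) (π₀ s))
  have h2 := hmeet _ h1
  rw [map_mul, map_inv, ← hconj, mul_inv_eq_one, mul_inv_eq_iff_eq_mul] at h2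
  exact h2.symm

/-- Local balance for field automorphisms. -/
theorem field_core (hn : 2 ≤ n) {r : ℕ} [Fact r.Prime] [CharP F r] {p : ℕ} (hp : p.Prime) (hpr : p ≠ r)
    (hσ : orderOf σ = p) (𝒢 : Subgroup (MulAut PSLn)) (hinn : ∀ k, MulAut.conj k ∈ 𝒢)
    (hdiv : p ∣ Nat.card (fixPts (semiAut (1 : GL (Fin n) F) σ))) :
    Cfsg.pPrimeCore p ↥(𝒢 ⊓ Subgroup.centralizer {semiAut (1 : GL (Fin n) F) σ}) = ⊥ := by
  haveI : Finite PSLn := Quotient.finite _
  exact CfsgLib.KnownC.AutPSU.Balance.core_bot (conj_injective hn) _ 𝒢 hinn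
    (field_core_fix σ hn (r := r) hp hpr hσ hdiv)
    fun m _ hm hfixm => field_fix σ hn hσ m hm fun i j hij a => hfixm _ (baseP σ _).2

end CfsgLib.KnownC.AutPSL.Balance
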