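import Cfsg.Agent.Lib.KnownC.AutPSL.Balance.Diag
import Cfsg.Agent.Lib.KnownC.GraphForms.Lin
import Cfsg.Agent.Lib.KnownC.AutPSU.Balance.Line
import Mathlib.LinearAlgebra.Matrix.ToLin

/-!
# The centraliser of an involutory graph automorphism of `PSL_n` has no odd normal subgroup

A symmetric or alternating form over `F` becomes Hermitian over a quadratic extension `E`, with the Galois involution
as real structure.
-/

set_option autoImplicit false
set_option linter.unusedSectionVars false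

namespace CfsgLib.KnownC.AutPSL.Balance

open Matrix
open CfsgLib.Classical (IsConjugation IsHermitian)
open CfsgLib.KnownC.AutPSU.Balance (fixPts RealForm OddGroup refl tv refl_apply tv_apply)
open CfsgLib.KnownC.GraphForms (Sim mem_Sim)
open CfsgLib.KnownC.GraphForms.Lin (gInv)

variable {F : Type*} [Field F] [Fintype F] {n : ℕ}
variable {E : Type*} [Field E] [Fintype E] (θ : E →+* E) (ι : F →+* E)

local notation "Mn" => Matrix (Fin n) (Fin n) F
local notation "PSLn" => Matrix.ProjectiveSpecialLinearGroup (Fin n) F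

/-- The Hermitian extension of a form with matrix `N`. -/
def extForm (N : Matrix (Fin n) (Fin n) E) : (Fin n → E) →ₛₗ[θ] (Fin n → E) →ₗ[E] E :=
  LinearMap.mk₂'ₛₗ θ (RingHom.id E) (fun x y => (θ ∘ x) ⬝ᵥ (N *ᵥ y))
    (fun x x' y => by
      rw [← add_dotProduct]; congr 1; funext i; exact map_add θ _ _)
    (fun c x y => by
      rw [← smul_dotProduct]; congr 1; funext i; exact map_mul θ _ _)
    (fun x y y' => by rw [Matrix.mulVec_add, dotProduct_add])
    (fun c x y => by rw [Matrix.mulVec_smul, dotProduct_smul]; rfl)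

theorem extForm_apply (N : Matrix (Fin n) (Fin n) E) (x y : Fin n → E) :
    extForm θ N x y = (θ ∘ x) ⬝ᵥ (N *ᵥ y) := rfl

/-- A matrix over `F` as an endomorphism over `E`. -/
noncomputable def toE : GL (Fin n) F →* Module.End E (Fin n → E) where
  toFun g := Matrix.toLin' ((g : Mn).map ι)
  map_one' := by rw [Units.val_one, Matrix.map_one _ (map_zero ι) (map_one ι), Matrix.toLin'_one]; rfl
  map_mul' g h := by rw [Units.val_mul, Matrix.map_mul, Matrix.toLin'_mul]; rfl

theorem toE_injective : Function.Injective (toE (n := n) ι) := fun _ _ h =>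
  Units.ext (Matrix.map_injective ι.injective (Matrix.toLin'.injective h))

variable {θ ι}

theorem theta_map (hι : ∀ x, θ x = x ↔ x ∈ Set.range ι) (a : F) : θ (ι a) = ι a := (hι _).2 ⟨a, rfl⟩

theorem toE_comm (hι : ∀ x, θ x = x ↔ x ∈ Set.range ι) (g : GL (Fin n) F) (x : Fin n → E) :
    toE ι g (θ ∘ x) = θ ∘ toE ι g x := by
  funext i
  show ((g : Mn).map ι *ᵥ (θ ∘ x)) i = θ (((g : Mn).map ι *ᵥ x) i)
  rw [RingHom.map_mulVec]
  congr 2
  ext a b
  exact (theta_map hι _).symm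

theorem realForm (hc : IsConjugation θ) (hι : ∀ x, θ x = x ↔ x ∈ Set.range ι) (h2 : (2 : E) ≠ 0) (M : GL (Fin n) F)
    {ε : F} (hM : (M : Mn)ᵀ = ε • (M : Mn)) (hε : ε = 1 ∨ ε = -1) {s : E} (hs0 : s ≠ 0) (hs : θ s = ι ε * s) :
    RealForm (extForm θ (s • (M : Mn).map ι)) (fun x => θ ∘ x) (ι ε) := by
  set N := s • (M : Mn).map ι with hN
  have hεε : ι ε * ι ε = 1 := by rw [← map_mul]; rcases hε with e | e <;> simp [e]
  have hNθ : N.map θ = ι ε • N := by
    ext i j
    simp [hN, hs, theta_map hι, mul_assoc]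
  have hNt : (N.map θ)ᵀ = N := by
    rw [hNθ, hN, Matrix.transpose_smul, Matrix.transpose_smul, ← Matrix.transpose_map, hM,
      show (ε • (M : Mn)).map ι = ι ε • (M : Mn).map ι by ext; simp, smul_comm s (ι ε), smul_smul, hεε, one_smul]
  have hθdot : ∀ u v : Fin n → E, θ (u ⬝ᵥ v) = (θ ∘ u) ⬝ᵥ (θ ∘ v) := fun u v => RingHom.map_dotProduct θ u v
  have hθθ : ∀ x : Fin n → E, θ ∘ (θ ∘ x) = x := fun x => funext fun i => hc.invol _
  have hθN : ∀ y : Fin n → E, θ ∘ (N *ᵥ y) = N.map θ *ᵥ (θ ∘ y) := fun y => funext fun i =>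
    RingHom.map_mulVec θ N y i
  have hdet : N.det ≠ 0 := by
    rw [hN, Matrix.det_smul]
    refine mul_ne_zero (pow_ne_zero _ hs0) ?_
    show (ι.mapMatrix (M : Mn)).det ≠ 0
    rw [← RingHom.map_det]
    exact (map_ne_zero ι).2 M.det_ne_zero
  refine ⟨⟨hc, fun x y => ?_⟩, fun y hy => ?_, h2, fun x y => funext fun i => map_add θ _ _,
    fun c x => funext fun i => map_mul θ _ _, hθθ, fun x y => ?_⟩
  · rw [extForm_apply, extForm_apply, hθdot, hθθ, hθN, Matrix.dotProduct_mulVec, ← Matrix.mulVec_transpose, hNt,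
      dotProduct_comm]
  · refine Matrix.eq_zero_of_mulVec_eq_zero hdet (funext fun i => ?_)
    have := hy (Pi.single i 1)
    rw [extForm_apply, show θ ∘ (Pi.single i (1 : E) : Fin n → E) = Pi.single i 1 from funext fun j => by
      rcases eq_or_ne j i with rfl | h <;> simp [*], single_dotProduct, one_mul] at this
    exact this
  · rw [extForm_apply, extForm_apply, hθdot, hθθ, hθN, hNθ]
    simp only [Matrix.smul_mulVec, dotProduct_smul, smul_eq_mul]
    rw [← mul_assoc (ι ε), hεε, one_mul]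

/-- Real isometries are defined over `F`. -/
theorem exists_iso (hι : ∀ x, θ x = x ↔ x ∈ Set.range ι) (M : GL (Fin n) F) {s : E} (hs0 : s ≠ 0)
    (L : Module.End E (Fin n → E))
    (hL : ∀ x y, extForm θ (s • (M : Mn).map ι) (L x) (L y) = extForm θ (s • (M : Mn).map ι) x y)
    (hJ : ∀ x, L (θ ∘ x) = θ ∘ L x) :
    ∃ g : GL (Fin n) F, toE ι g = L ∧ (g : Mn)ᵀ * M * (g : Mn) = (M : Mn) := by
  set A := LinearMap.toMatrix' L with hA
  have hfix : ∀ i j, θ (A i j) = A i j := fun i j => by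
    rw [hA, LinearMap.toMatrix'_apply]
    have h := hJ (Pi.single j 1)
    have e : θ ∘ (Pi.single j (1 : E) : Fin n → E) = Pi.single j 1 := funext fun k => by
      rcases eq_or_ne k j with rfl | h <;> simp [*]
    rw [e] at h
    exact (congrFun h i).symm
  choose g₀ hg₀ using fun i j => (hι (A i j)).1 (hfix i j)
  set g : Mn := Matrix.of g₀
  have hgA : g.map ι = A := Matrix.ext hg₀
  have hAθ : A.map θ = A := Matrix.ext hfix
  have hiso : gᵀ * M * g = (M : Mn) := by
    refine Matrix.map_injective ι.injective ?_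
    show (gᵀ * (M : Mn) * g).map ι = (M : Mn).map ι
    rw [Matrix.map_mul, Matrix.map_mul, Matrix.transpose_map, hgA]
    refine Matrix.ext fun i j => mul_left_cancel₀ hs0 ?_
    have h := hL (Pi.single i 1) (Pi.single j 1)
    have e : θ ∘ (Pi.single i (1 : E) : Fin n → E) = Pi.single i 1 := funext fun k => by
      rcases eq_or_ne k i with rfl | h <;> simp [*]
    have e' : ∀ k, L (Pi.single k 1) = fun t => A t k := fun k => funext fun t => by
      rw [hA, LinearMap.toMatrix'_apply]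
    rw [extForm_apply, extForm_apply, e, e', e', show θ ∘ (fun t => A t i) = fun t => A t i from
      funext fun t => hfix t i, Matrix.mulVec_single_one, single_dotProduct, one_mul, Matrix.col_apply] at h
    rw [Matrix.smul_apply, smul_eq_mul, Matrix.smul_mulVec, dotProduct_smul, smul_eq_mul] at h
    rw [← h]
    congr 1
    rw [Matrix.mul_assoc, Matrix.mul_apply]
    rfl
  have hdet : g.det ≠ 0 := fun e => M.det_ne_zero (by
    have := congrArg Matrix.det hiso
    rwa [Matrix.det_mul, e, mul_zero, eq_comm] at this)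
  exact ⟨Matrix.GeneralLinearGroup.mkOfDetNeZero g hdet, by
    show Matrix.toLin' (g.map ι) = L
    rw [hgA, hA, Matrix.toLin'_toMatrix'], hiso⟩

/-- The core of the fixed points of an involutory graph automorphism is trivial. -/
theorem graph_core_fix (hn : 3 ≤ n) (hc : IsConjugation θ) (hι : ∀ x, θ x = x ↔ x ∈ Set.range ι) {r : ℕ} (hr : Odd r)
    (hr0 : (r : E) = 0) (h2 : (2 : E) ≠ 0) (M : GL (Fin n) F) {ε : F} (hM : (M : Mn)ᵀ = ε • (M : Mn))
    (hε : ε = 1 ∨ ε = -1) :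
    Cfsg.pPrimeCore 2 (fixPts (gInv M)) = ⊥ := by
  haveI : Finite PSLn := Quotient.finite _
  obtain ⟨δ, hδ0, hδ⟩ := hc.exists_trace_zero
  obtain ⟨s, hs0, hs⟩ : ∃ s : E, s ≠ 0 ∧ θ s = ι ε * s := by
    rcases hε with rfl | rfl
    · exact ⟨1, one_ne_zero, by simp⟩
    · exact ⟨δ, hδ0, by rw [map_neg, map_one]; linear_combination hδ⟩
  have hεE : ι ε = 1 ∨ ι ε = -1 := by rcases hε with e | e <;> simp [e]
  have h := realForm hc hι h2 M hM hε hs0 hs
  set H := extForm θ (s • (M : Mn).map ι) with hH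
  set L := fixPts (gInv M) with hLdef
  set D := (Cfsg.pPrimeCore 2 L).map L.subtype with hD
  have hnorm : ∀ k : GL (Fin n) F, (k : Mn)ᵀ * M * (k : Mn) = (M : Mn) → ∀ l ∈ D,
      semiAut k (RingEquiv.refl F) l ∈ D := fun k hk l hl =>
    CfsgLib.KnownC.AutPSU.Balance.core_invariant 2
      (Subgroup.mem_centralizer_singleton_iff.2 ((CfsgLib.KnownC.GraphForms.Lin.commute_iff hn k M).2 ⟨1, by rw [hk, Units.val_one, one_smul]⟩)) hl
  let π : GL (Fin n) F →* MulAut PSLn :=
    MonoidHom.mk' (fun g => semiAut g (RingEquiv.refl F)) fun A B => (refl_mul A B).symm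
  let S : Submonoid (GL (Fin n) F) :=
    { carrier := {g | (g : Mn)ᵀ * M * (g : Mn) = (M : Mn) ∧ π g ∈ D.map MulAut.conj}
      mul_mem' := fun {a b} ha hb => ⟨by
        rw [Units.val_mul, Matrix.transpose_mul]
        calc (b : Mn)ᵀ * (a : Mn)ᵀ * M * ((a : Mn) * (b : Mn))
            = (b : Mn)ᵀ * ((a : Mn)ᵀ * M * (a : Mn)) * (b : Mn) := by simp only [Matrix.mul_assoc]
          _ = _ := by rw [ha.1, hb.1], by rw [map_mul]; exact mul_mem ha.2 hb.2⟩
      one_mem' := ⟨by simp, by rw [map_one]; exact one_mem _⟩ }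
  have hinvS : ∀ g ∈ S, g⁻¹ ∈ S := fun g hg => by
    refine ⟨?_, by rw [map_inv]; exact inv_mem hg.2⟩
    conv_lhs => rw [← hg.1]
    calc ((g⁻¹ : GL (Fin n) F) : Mn)ᵀ * ((g : Mn)ᵀ * M * (g : Mn)) * ((g⁻¹ : GL (Fin n) F) : Mn)
        = ((g : Mn) * ((g⁻¹ : GL (Fin n) F) : Mn))ᵀ * M * ((g : Mn) * ((g⁻¹ : GL (Fin n) F) : Mn)) := by
          simp only [Matrix.transpose_mul, Matrix.mul_assoc]
      _ = _ := by rw [← Units.val_mul, mul_inv_cancel]; simp
  have hisom : ∀ g : GL (Fin n) F, (g : Mn)ᵀ * M * (g : Mn) = (M : Mn) → ∀ x y, H (toE ι g x) (toE ι g y) = H x y := by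
    intro g hg x y
    rw [hH, extForm_apply, extForm_apply, ← toE_comm hι g x]
    show ((g : Mn).map ι *ᵥ (θ ∘ x)) ⬝ᵥ ((s • (M : Mn).map ι) *ᵥ ((g : Mn).map ι *ᵥ y)) = _
    rw [CfsgLib.KnownC.GraphForms.dot_mul, Matrix.mul_smul, Matrix.smul_mul, ← Matrix.transpose_map,
      ← Matrix.map_mul, ← Matrix.map_mul, hg]
  have hconj : ∀ (k : GL (Fin n) F) (g : GL (Fin n) F), (k : Mn)ᵀ * M * (k : Mn) = (M : Mn) → g ∈ S →
      k * g * k⁻¹ ∈ S := by
    intro k g hk hg
    refine ⟨?_, ?_⟩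
    · have hk' : ((k⁻¹ : GL (Fin n) F) : Mn)ᵀ * M * ((k⁻¹ : GL (Fin n) F) : Mn) = (M : Mn) := by
        conv_lhs => rw [← hk]
        calc ((k⁻¹ : GL (Fin n) F) : Mn)ᵀ * ((k : Mn)ᵀ * M * (k : Mn)) * ((k⁻¹ : GL (Fin n) F) : Mn)
            = ((k : Mn) * ((k⁻¹ : GL (Fin n) F) : Mn))ᵀ * M * ((k : Mn) * ((k⁻¹ : GL (Fin n) F) : Mn)) := by
              simp only [Matrix.transpose_mul, Matrix.mul_assoc]
          _ = _ := by rw [← Units.val_mul, mul_inv_cancel]; simp
      rw [Units.val_mul, Units.val_mul]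
      calc ((k : Mn) * (g : Mn) * ((k⁻¹ : GL (Fin n) F) : Mn))ᵀ * M *
            ((k : Mn) * (g : Mn) * ((k⁻¹ : GL (Fin n) F) : Mn))
          = ((k⁻¹ : GL (Fin n) F) : Mn)ᵀ * ((g : Mn)ᵀ * ((k : Mn)ᵀ * M * (k : Mn)) * (g : Mn)) *
              ((k⁻¹ : GL (Fin n) F) : Mn) := by simp only [Matrix.transpose_mul, Matrix.mul_assoc]
        _ = _ := by rw [hk, hg.1, hk']
    · obtain ⟨l, hl, hle⟩ := hg.2
      refine ⟨semiAut k (RingEquiv.refl F) l, hnorm k hk l hl, ?_⟩
      rw [map_mul, map_mul, map_inv, ← hle, ← CfsgLib.KnownC.AutPSU.Balance.conj_apply_aut]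
      rfl
  let R : Submonoid (Module.End E (Fin n → E)) := S.map (toE ι)
  have hR : OddGroup H (fun x => θ ∘ x) (ι ε) R := by
    refine ⟨?_, ?_, ?_, ?_, ?_, ?_⟩
    · rintro _ ⟨g, hg, rfl⟩
      exact ⟨toE ι g⁻¹, ⟨g⁻¹, hinvS g hg, rfl⟩, by rw [← map_mul, mul_inv_cancel, map_one]⟩
    · rintro _ ⟨g, hg, rfl⟩
      exact hisom g hg.1
    · rintro _ ⟨g, -, rfl⟩ x
      exact toE_comm hι g x
    · rintro _ ⟨g, hg, rfl⟩
      obtain ⟨l, hl, hle⟩ := hg.2
      have hodd : Odd (orderOf (π g)) := by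
        rw [← hle, orderOf_injective _ (conj_injective (by omega)), ← Nat.coprime_two_right]
        obtain ⟨l', hl', rfl⟩ := hl
        rw [Subgroup.subtype_apply, Subgroup.orderOf_coe, ← Subgroup.orderOf_mk l' hl']
        exact (CfsgLib.Solvable.Cores.coprime_card_pPrimeCore (G := L) 2).coprime_dvd_left (orderOf_dvd_natCard _)
      refine ⟨orderOf (π g), hodd, ?_⟩
      have h1 : semiAut (g ^ orderOf (π g)) (RingEquiv.refl F) = 1 :=
        (map_pow π g _).trans (pow_orderOf_eq_one _)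
      obtain ⟨-, c, hc⟩ := semi_eq_one (by omega) h1
      refine ⟨ι (c : F), fun x => ?_⟩
      rw [← map_pow]
      show ((g ^ orderOf (π g) : GL (Fin n) F) : Mn).map ι *ᵥ x = _
      rw [hc, show ((c : F) • (1 : Mn)).map ι = ι (c : F) • (1 : Matrix (Fin n) (Fin n) E) from Matrix.ext fun i j => by
        simp [Matrix.one_apply, apply_ite ι], Matrix.smul_mulVec, Matrix.one_mulVec]
    · rintro he u hu hua _ ⟨g, hg, rfl⟩
      obtain ⟨k, hk, hki⟩ := exists_iso hι M hs0 (refl H u) (h.refl_isom hua) (h.refl_comm he hu)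
      have hkk : k⁻¹ = k := inv_eq_of_mul_eq_one_right (toE_injective ι (by
        rw [map_mul, map_one, hk]
        exact LinearMap.ext fun x => h.refl_invol hua x))
      refine ⟨k * g * k⁻¹, hconj k g hki hg, ?_⟩
      rw [map_mul, map_mul, hkk, hk]
    · rintro he u t hu ht _ ⟨g, hg, rfl⟩
      obtain ⟨k, hk, hki⟩ := exists_iso hι M hs0 (tv H u t) (h.tv_isom (h.alt he hu) ht) (h.tv_comm he hu ht)
      refine ⟨k * g * k⁻¹, hconj k g hki hg, ?_⟩
      have e0 : tv H u t * tv H u (-t) = 1 := LinearMap.ext fun x => by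
        simp [tv_apply, Module.End.mul_apply, h.alt he hu]
      have e : toE ι k⁻¹ = tv H u (-t) := by
        rw [← mul_one (toE ι k⁻¹), ← e0, ← hk, ← mul_assoc, ← map_mul, inv_mul_cancel, map_one, one_mul]
      rw [map_mul, map_mul, hk, e]
  rw [eq_bot_iff]
  intro l hl
  rw [Subgroup.mem_bot]
  obtain ⟨u, hu⟩ := QuotientGroup.mk_surjective (l : PSLn)
  set G := Matrix.SpecialLinearGroup.toGL u with hGdef
  have hGl : MulAut.conj (l : PSLn) = semiAut G (RingEquiv.refl F) := by rw [← hu]; exact conj_mk u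
  have hG : G ∈ Sim (M : Mn) := (CfsgLib.KnownC.GraphForms.Lin.commute_iff hn G M).1 (Subgroup.mem_centralizer_singleton_iff.1
    (hGl ▸ (CfsgLib.KnownC.AutPSU.Balance.conj_mem_centralizer (conj_injective (by omega)) (gInv M) _).2 l.2))
  obtain ⟨c, hc'⟩ := mem_Sim.1 hG
  set g := scl c⁻¹ * (G * G) with hgdef
  have hg : g ∈ S := by
    refine ⟨?_, ?_⟩
    · rw [hgdef, Units.val_mul, scl_coe, Units.val_mul, Matrix.smul_mul, Matrix.one_mul, Matrix.transpose_smul,
        Matrix.smul_mul, Matrix.smul_mul, Matrix.mul_smul, smul_smul, Matrix.transpose_mul]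
      calc (((c⁻¹ : Fˣ) : F) * ((c⁻¹ : Fˣ) : F)) • ((G : Mn)ᵀ * (G : Mn)ᵀ * M * ((G : Mn) * (G : Mn)))
          = (((c⁻¹ : Fˣ) : F) * ((c⁻¹ : Fˣ) : F)) • ((G : Mn)ᵀ * ((G : Mn)ᵀ * M * (G : Mn)) * (G : Mn)) := by
            simp only [Matrix.mul_assoc]
        _ = _ := by
            rw [hc', Matrix.mul_smul, Matrix.smul_mul, hc', smul_smul, smul_smul, Units.val_inv_eq_inv_val]
            field_simp
            exact one_smul F _
    · refine ⟨(l : PSLn) * l, mul_mem ⟨l, hl, rfl⟩ ⟨l, hl, rfl⟩, ?_⟩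
      show MulAut.conj ((l : PSLn) * l) = semiAut g (RingEquiv.refl F)
      rw [map_mul, hGl, refl_mul, hgdef, semiAut_scl_mul]
  obtain ⟨a, ha⟩ := hR.scalar h hεE (by rw [Module.finrank_fin_fun]; omega) hr hr0 ⟨g, hg, rfl⟩
  have hgs : (g : Mn) = (g : Mn) ⟨0, by omega⟩ ⟨0, by omega⟩ • (1 : Mn) := by
    have hm : (g : Mn).map ι = a • (1 : Matrix (Fin n) (Fin n) E) := Matrix.toLin'.injective (by
      refine LinearMap.ext fun x => (ha x).trans ?_
      rw [Matrix.toLin'_apply, Matrix.smul_mulVec, Matrix.one_mulVec])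
    have h00 := congrFun (congrFun hm ⟨0, by omega⟩) ⟨0, by omega⟩
    simp only [Matrix.map_apply, Matrix.smul_apply, Matrix.one_apply_eq, smul_eq_mul, mul_one] at h00
    refine Matrix.map_injective ι.injective (hm.trans ?_)
    rw [← h00]
    exact Matrix.ext fun i j => by simp [Matrix.one_apply, apply_ite ι]
  have hg1 : semiAut g (RingEquiv.refl F) = 1 := by
    have h0 : (g : Mn) ⟨0, by omega⟩ ⟨0, by omega⟩ ≠ 0 := fun e => g.det_ne_zero (by
      haveI : Nonempty (Fin n) := ⟨⟨0, by omega⟩⟩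
      rw [hgs, e, zero_smul, Matrix.det_zero])
    rw [show g = scl (Units.mk0 _ h0) from Units.ext (by rw [scl_coe, Units.val_mk0]; exact hgs)]
    exact semiAut_scl _
  have hl2 : (l : PSLn) * l = 1 := conj_injective (by omega : 2 ≤ n) (by
    rw [map_mul, hGl, refl_mul, map_one, ← semiAut_scl_mul c⁻¹ (G * G)]
    exact hg1)
  have hlodd : Odd (orderOf l) := by
    rw [← Nat.coprime_two_right, ← Subgroup.orderOf_mk l hl]
    exact (CfsgLib.Solvable.Cores.coprime_card_pPrimeCore (G := L) 2).coprime_dvd_left (orderOf_dvd_natCard _)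
  obtain ⟨j, hj⟩ := hlodd
  have e := pow_orderOf_eq_one l
  rwa [hj, pow_succ, pow_mul, pow_two, show l * l = 1 from Subtype.ext hl2, one_pow, one_mul] at e

/-- An automorphism of odd order centralising the isometries of an alternating form is trivial. -/
theorem alt_fix (hn : 3 ≤ n) (M : GL (Fin n) F) (hM : (M : Mn)ᵀ = -(M : Mn))
    (halt : ∀ v, v ⬝ᵥ ((M : Mn) *ᵥ v) = 0) (m : MulAut PSLn) (hm : Odd (orderOf m))
    (hfix : ∀ s : Matrix.SpecialLinearGroup (Fin n) F, (s : Mn)ᵀ * M * (s : Mn) = (M : Mn) →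
      m (QuotientGroup.mk s) = QuotientGroup.mk s) : m = 1 := by
  classical
  obtain ⟨B, τ, rfl⟩ := semi_of_odd (by omega) m hm
  refine eq_one_of_lines B τ fun v => ?_
  rcases eq_or_ne v 0 with rfl | hv
  · exact ⟨0, by rw [map_zero, zero_smul]⟩
  set w := (M : Mn) *ᵥ v with hw
  have hwv : w ⬝ᵥ v = 0 := by rw [dotProduct_comm]; exact halt v
  set N := Matrix.vecMulVec v w with hN
  have hNN : N * N = 0 := by
    rw [hN, Matrix.vecMulVec_mul_vecMulVec, hwv]
    ext i j
    simp [Matrix.vecMulVec_apply]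
  let s : Matrix.SpecialLinearGroup (Fin n) F := ⟨1 + N, by
    rw [hN, Matrix.vecMulVec_eq Unit, Matrix.det_one_add_replicateCol_mul_replicateRow, hwv, add_zero]⟩
  have hsiso : (s : Mn)ᵀ * M * (s : Mn) = (M : Mn) := by
    show (1 + N)ᵀ * (M : Mn) * (1 + N) = (M : Mn)
    have e1 : (M : Mn) * N = Matrix.vecMulVec w w := by rw [hN, Matrix.mul_vecMulVec]
    have e2 : Nᵀ * (M : Mn) = -Matrix.vecMulVec w w := by
      rw [hN, Matrix.transpose_vecMulVec, Matrix.vecMulVec_mul, show v ᵥ* (M : Mn) = -w by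
        rw [hw, ← Matrix.mulVec_transpose, hM, Matrix.neg_mulVec]]
      ext i j
      simp [Matrix.vecMulVec_apply]
    have e3 : Matrix.vecMulVec w w * N = 0 := by
      rw [hN, Matrix.vecMulVec_mul_vecMulVec, hwv]
      ext i j
      simp [Matrix.vecMulVec_apply]
    rw [Matrix.transpose_add, Matrix.transpose_one, Matrix.add_mul, Matrix.one_mul, e2, Matrix.add_mul,
      Matrix.mul_add, Matrix.mul_add, Matrix.mul_one, Matrix.mul_one, e1, Matrix.neg_mul, e3]
    abel
  have hw0 : w ≠ 0 := fun e => hv (Matrix.eq_zero_of_mulVec_eq_zero M.det_ne_zero e)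
  obtain ⟨i, hi⟩ := Function.ne_iff.1 hw0
  obtain ⟨c, hc⟩ := fix_mk B τ (hfix s hsiso)
  change (B : Mn) * (1 + N).map τ = c • ((1 + N) * B) at hc
  rw [Matrix.map_add _ (map_add τ), Matrix.map_one _ (map_zero τ) (map_one τ)] at hc
  obtain ⟨-, hcomm⟩ := unip_comm B hc (by rw [← Matrix.map_mul, hNN, Matrix.map_zero _ (map_zero τ)]) hNN (fun e => by
    obtain ⟨j, hj⟩ := Function.ne_iff.1 hv
    exact mul_ne_zero hj hi (congrFun (congrFun e j) i))
  refine ⟨(τ (w i))⁻¹ * (w ⬝ᵥ ((B : Mn) *ᵥ Pi.single i 1)), ?_⟩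
  have h := congrArg (fun X => X *ᵥ (Pi.single i (1 : F) : Fin n → F)) hcomm
  have hmap : N.map τ = Matrix.vecMulVec (fun a => τ (v a)) (fun a => τ (w a)) := by
    ext a b
    simp [hN, Matrix.vecMulVec_apply]
  rw [hmap] at h
  simp only [← Matrix.mulVec_mulVec, hN, Matrix.vecMulVec_mulVec, dotProduct_single, mul_one,
    op_smul_eq_smul, Matrix.mulVec_smul] at h
  rw [semiVec_apply, mul_smul, ← h, inv_smul_smul₀ ((map_ne_zero τ).2 hi)]

end CfsgLib.KnownC.AutPSL.Balance
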