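import Cfsg.Agent.Lib.KnownC.AutPSL.Balance.Diag
import Cfsg.Agent.S0283
import Cfsg.Agent.Lib.KnownC.AutPSU.Balance.FieldCore

/-!
# The centraliser of an involutory graph-field automorphism of `PSL_n`
-/

set_option autoImplicit false
set_option linter.unusedSectionVars false

namespace CfsgLib.KnownC.AutPSL.Balance

open Matrix
open CfsgLib.KnownC.AutPSU.Balance (fixPts)

variable {F : Type*} [Field F] [Fintype F] {n : ℕ}

local notation "Mn" => Matrix (Fin n) (Fin n) F
local notation "SLn" => Matrix.SpecialLinearGroup (Fin n) F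
local notation "PSLn" => Matrix.ProjectiveSpecialLinearGroup (Fin n) F

theorem gf_fixed (σ : F ≃+* F) (hinv : ∀ a, σ (σ a) = a) {s : SLn} (h : ((s : Mn).map σ)ᵀ * (s : Mn) = 1) :
    semiSL (1 : GL (Fin n) F) σ (itSL s) = s := by
  have e : ((s⁻¹ : SLn) : Mn) = ((s : Mn).map σ)ᵀ :=
    (left_inv_eq_right_inv h (by rw [← Matrix.SpecialLinearGroup.coe_mul, mul_inv_cancel]; rfl)).symm
  refine Subtype.ext ?_
  rw [semiSL_coe, inv_one, Units.val_one, Matrix.one_mul, Matrix.mul_one]
  show (((s⁻¹ : SLn) : Mn)ᵀ).map σ = _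
  rw [e, Matrix.transpose_transpose]
  exact Matrix.ext fun i j => hinv _

theorem gf_mem (σ : F ≃+* F) (hinv : ∀ a, σ (σ a) = a) {s : SLn} (h : ((s : Mn).map σ)ᵀ * (s : Mn) = 1) :
    (QuotientGroup.mk s : PSLn) ∈ fixPts (semiAut (1 : GL (Fin n) F) σ * itAut) := by
  show semiAut (1 : GL (Fin n) F) σ (QuotientGroup.mk (itSL s)) = _
  rw [semiAut_mk, gf_fixed σ hinv h]
  rfl

/-- The core of the fixed points of the standard graph-field involution is trivial. -/
theorem gf_core_fix (hn : 3 ≤ n) (σ : F ≃+* F) (hσ : orderOf σ = 2) (h2 : (2 : F) ≠ 0) :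
    Cfsg.pPrimeCore 2 (fixPts (semiAut (1 : GL (Fin n) F) σ * itAut)) = ⊥ := by
  classical
  haveI : Finite PSLn := Quotient.finite _
  have hinv := sigma_sq_of_orderOf hσ
  obtain ⟨r, hr⟩ := CharP.exists F
  obtain ⟨f, hr', hf⟩ := FiniteField.card F r
  haveI := Fact.mk hr'
  obtain ⟨hf2, hq⟩ := involution_eq_pow hf σ hσ
  set q := r ^ ((f : ℕ) / 2) with hqdef
  have hF : Fintype.card F = q ^ 2 := by rw [hf, hqdef, ← pow_mul, Nat.div_mul_cancel hf2]
  haveI : Fact (Fintype.card F = q ^ 2) := ⟨hF⟩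
  haveI : Fintype (Cfsg.SU n F q) := Fintype.ofFinite _
  have hq2 : q ≠ 2 := fun e => h2 (by
    have h4 : (Fintype.card F : F) = 0 := Nat.cast_card_eq_zero F
    rw [hF, e] at h4
    exact pow_eq_zero_iff two_ne_zero |>.1 (show (2 : F) ^ 2 = 0 by rw [← h4]; norm_num))
  haveI : IsSimpleGroup (Cfsg.PSU n F q) := Cfsg.Agent.S0283.result hF n hn fun h => hq2 h.2
  set L := fixPts (semiAut (1 : GL (Fin n) F) σ * itAut) with hL
  set D := Cfsg.pPrimeCore 2 L with hD
  haveI : D.Normal := Cfsg.pPrimeCore_normal 2 _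
  have hcop : (Nat.card D).Coprime 2 := CfsgLib.Solvable.Cores.coprime_card_pPrimeCore 2
  have hmemSU : ∀ s : SLn, s ∈ Cfsg.SU n F q ↔ ((s : Mn).map σ)ᵀ * (s : Mn) = 1 := fun s =>
    gu_mem_iff σ q hq hinv (Matrix.SpecialLinearGroup.toGL s)
  let π : Cfsg.SU n F q →* L :=
    ((QuotientGroup.mk' (Subgroup.center SLn)).comp (Cfsg.SU n F q).subtype).codRestrict L fun s =>
      gf_mem σ hinv ((hmemSU _).1 s.2)
  have hπ : ∀ z ∈ Subgroup.center (Cfsg.SU n F q), π z = 1 := fun z hz => by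
    obtain ⟨c, hc⟩ := CfsgLib.KnownC.AutPSU.Balance.center_su_scalar hF (by omega) hz
    exact Subtype.ext ((QuotientGroup.eq_one_iff _).2 (mem_center_of_scalar hc))
  let ψ : Cfsg.PSU n F q →* L := QuotientGroup.lift _ π hπ
  -- an involution
  let d : Fin n → F := fun i => if (i : ℕ) < 2 then -1 else 1
  have hdet : (Matrix.diagonal d).det = 1 := by
    rw [Matrix.det_diagonal, Finset.prod_eq_mul (⟨0, by omega⟩ : Fin n) ⟨1, by omega⟩ (by simp [Fin.ext_iff])
      (fun i _ hi => by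
        simp [Fin.ext_iff] at hi
        simp [d]; omega) (by simp) (by simp)]
    simp [d]
  let s₁' : SLn := ⟨Matrix.diagonal d, hdet⟩
  have hd2 : ∀ i, d i * d i = 1 := fun i => by simp only [d]; split_ifs <;> simp
  let s₁ : Cfsg.SU n F q := ⟨s₁', (hmemSU s₁').2 (by
    show ((Matrix.diagonal d).map σ)ᵀ * Matrix.diagonal d = 1
    rw [Matrix.diagonal_map (map_zero σ), Matrix.diagonal_transpose, Matrix.diagonal_mul_diagonal,
      ← Matrix.diagonal_one]
    congr 1
    funext i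
    simp only [Function.comp, d]
    split_ifs <;> simp)⟩
  have hs₁ : orderOf (π s₁) = 2 := by
    refine orderOf_eq_prime ?_ fun h => ?_
    · rw [← map_pow, show s₁ ^ 2 = 1 from Subtype.ext (Subtype.ext (by
        rw [pow_two]
        show Matrix.diagonal d * Matrix.diagonal d = 1
        rw [Matrix.diagonal_mul_diagonal, ← Matrix.diagonal_one]
        exact congrArg _ (funext hd2))), map_one]
    · obtain ⟨c, hc⟩ := center_scalar ((QuotientGroup.eq_one_iff _).1 (congrArg Subtype.val h))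
      have h0 := congrFun (congrFun hc ⟨0, by omega⟩) ⟨0, by omega⟩
      have h2' := congrFun (congrFun hc ⟨2, by omega⟩) ⟨2, by omega⟩
      simp [s₁, s₁', d] at h0 h2'
      exact h2 (by linear_combination h2' - h0)
  -- the image meets the core trivially
  have hmeet : ∀ s, π s ∈ D → π s = 1 := by
    intro s hsD
    haveI : (D.comap ψ).Normal := inferInstance
    rcases Subgroup.Normal.eq_bot_or_eq_top (H := D.comap ψ) inferInstance with hbot | htop
    · have : (QuotientGroup.mk s : Cfsg.PSU n F q) ∈ D.comap ψ := hsD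
      rw [hbot, Subgroup.mem_bot] at this
      show ψ (QuotientGroup.mk s) = 1
      rw [this, map_one]
    · exfalso
      have hmem : π s₁ ∈ D := by
        have : (QuotientGroup.mk s₁ : Cfsg.PSU n F q) ∈ D.comap ψ := htop ▸ Subgroup.mem_top _
        exact this
      have h1 := Nat.eq_one_of_dvd_coprimes hcop (Subgroup.orderOf_dvd_natCard D hmem) (by rw [hs₁])
      rw [hs₁] at h1
      exact absurd h1 (by norm_num)
  rw [eq_bot_iff]
  intro x hx
  rw [Subgroup.mem_bot]
  obtain ⟨u, hu⟩ := QuotientGroup.mk_surjective (x : PSLn)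
  have hu1 : semiAut (1 : GL (Fin n) F) σ (QuotientGroup.mk (itSL u)) = QuotientGroup.mk u := by
    have h := x.2
    rw [← hu] at h
    exact h
  rw [semiAut_mk, eq_comm, QuotientGroup.eq] at hu1
  set z := u⁻¹ * semiSL (1 : GL (Fin n) F) σ (itSL u) with hzdef
  have hze : semiSL (1 : GL (Fin n) F) σ (itSL u) = u * z := (mul_inv_cancel_left _ _).symm
  have hodd : Odd (orderOf (MulAut.conj (x : PSLn))) := by
    rw [orderOf_injective _ (conj_injective (by omega)), Subgroup.orderOf_coe, ← Nat.coprime_two_right,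
      ← Subgroup.orderOf_mk x hx]
    exact hcop.coprime_dvd_left (orderOf_dvd_natCard _)
  refine Subtype.ext (conj_injective (by omega) ((diag_fix hn h2 σ hσ.dvd (fun _ => 1) (fun _ => one_ne_zero)
    (fun _ => map_one σ) _ hodd fun s hsσ hsiso => ?_).trans (map_one MulAut.conj).symm))
  have hs : ((s : Mn).map σ)ᵀ * (s : Mn) = 1 := by
    rw [hsσ]
    simpa using hsiso
  -- the commutator lies in the image
  have hfixb : semiSL (1 : GL (Fin n) F) σ (itSL (u * s * u⁻¹)) = u * s * u⁻¹ := by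
    rw [map_mul, map_mul, map_mul, map_mul, map_inv, map_inv, hze, gf_fixed σ hinv hs]
    have := Subgroup.mem_center_iff.1 hu1 s
    calc u * z * s * (u * z)⁻¹ = u * (z * s) * z⁻¹ * u⁻¹ := by group
      _ = _ := by rw [← this]; group
  have hmem : (u * s * u⁻¹ : SLn) ∈ Cfsg.SU n F q := by
    rw [hmemSU]
    have e := congrArg (fun y : SLn => ((y : Mn).map σ)ᵀ) hfixb
    simp only [semiSL_coe, inv_one, Units.val_one, Matrix.one_mul, Matrix.mul_one] at e
    rw [← e]
    show ((((((u * s * u⁻¹ : SLn)⁻¹ : SLn) : Mn)ᵀ).map σ).map σ)ᵀ * ((u * s * u⁻¹ : SLn) : Mn) = 1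
    rw [Matrix.map_map, show (σ ∘ σ : F → F) = id from funext hinv, Matrix.map_id, Matrix.transpose_transpose,
      ← Matrix.SpecialLinearGroup.coe_mul, inv_mul_cancel]
    rfl
  set b : Cfsg.SU n F q := ⟨s, (hmemSU s).2 hs⟩
  set t : Cfsg.SU n F q := ⟨u * s * u⁻¹, hmem⟩
  have hconj : x * π b * x⁻¹ = π t := Subtype.ext (by
    show (x : PSLn) * QuotientGroup.mk s * (x : PSLn)⁻¹ = QuotientGroup.mk (u * s * u⁻¹)
    rw [← hu]
    rfl)
  have h1 : π (t * b⁻¹) ∈ D := by
    rw [map_mul, map_inv, ← hconj, mul_assoc, mul_assoc]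
    exact mul_mem hx (mul_assoc (π b) _ _ ▸ (Cfsg.pPrimeCore_normal 2 _).conj_mem _ (inv_mem hx) (π b))
  have h3 := hmeet _ h1
  rw [map_mul, map_inv, ← hconj, mul_inv_eq_one, mul_inv_eq_iff_eq_mul] at h3
  rw [MulAut.conj_apply, mul_inv_eq_iff_eq_mul]
  exact congrArg (fun y : L => (y : PSLn)) h3

end CfsgLib.KnownC.AutPSL.Balance
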