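import Cfsg.Agent.Lib.KnownC.AutPSL.Balance.Field
import Cfsg.Agent.Lib.KnownC.AutPSL.Balance.Graph
import Cfsg.Agent.Lib.KnownC.AutPSL.Balance.GraphField
import Cfsg.Agent.Lib.KnownC.GraphForms.Classify
import Mathlib.FieldTheory.Finite.Extension
import Cfsg.Agent.Lib.KnownC.FieldExt

/-!
# Local balance for involutory graph and graph-field automorphisms of `PSL_n`
-/

set_option autoImplicit false
set_option linter.unusedSectionVars false

namespace CfsgLib.KnownC.AutPSL.Balance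

open Matrix
open CfsgLib.KnownC.AutPSU.Balance (fixPts)
open CfsgLib.KnownC.GraphForms.Lin (gInv)

variable {F : Type*} [Field F] [Fintype F] {n : ℕ}

local notation "Mn" => Matrix (Fin n) (Fin n) F
local notation "PSLn" => Matrix.ProjectiveSpecialLinearGroup (Fin n) F

/-- The core of the fixed points, with the extension field chosen. -/
theorem graph_core_fix' (hn : 3 ≤ n) {r : ℕ} [Fact r.Prime] [CharP F r] (hr : Odd r) (h2 : (2 : F) ≠ 0)
    (M : GL (Fin n) F) {ε : F} (hM : (M : Mn)ᵀ = ε • (M : Mn)) (hε : ε = 1 ∨ ε = -1) :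
    Cfsg.pPrimeCore 2 (fixPts (gInv M)) = ⊥ := by
  classical
  let E := FiniteField.Extension F r 2
  letI : Fintype E := Fintype.ofFinite E
  haveI : CharP E r := charP_of_injective_algebraMap (algebraMap F E).injective r
  have hcard : Fintype.card E = Fintype.card F ^ 2 := by
    rw [← Nat.card_eq_fintype_card, ← Nat.card_eq_fintype_card, FiniteField.natCard_extension]
  obtain ⟨θ, hθ, hc⟩ := CfsgLib.Classical.exists_frob hcard
  refine graph_core_fix (θ := θ) (ι := algebraMap F E) hn hc (fun x => ?_) hr (CharP.cast_eq_zero E r) ?_ M hM hε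
  · rw [hθ]
    constructor
    · exact CfsgLib.KnownC.FieldExt.mem_range_of_fixed rfl
    · rintro ⟨a, rfl⟩
      exact CfsgLib.KnownC.FieldExt.algebraMap_pow rfl a
  · intro e
    exact h2 ((algebraMap F E).injective (by rw [map_ofNat, map_zero]; exact e))

/-- An involutory graph automorphism of a symmetric form may be diagonalised. -/
theorem gInv_diag (hn : 3 ≤ n) (h2 : (2 : F) ≠ 0) (M : GL (Fin n) F) (hM : (M : Mn)ᵀ = (M : Mn)) :
    ∃ (h D : GL (Fin n) F) (d : Fin n → F), (∀ i, d i ≠ 0) ∧ (D : Mn) = Matrix.diagonal d ∧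
      semiAut h (RingEquiv.refl F) * gInv M * (semiAut h (RingEquiv.refl F))⁻¹ = gInv D := by
  obtain ⟨k, rfl⟩ : ∃ k, n = k + 1 := ⟨n - 1, by omega⟩
  obtain ⟨δ, hδ, -, hC⟩ := CfsgLib.KnownC.GraphForms.similar_diagForm h2 hM M.det_ne_zero (Fintype.card_fin _)
  set d : Fin (k + 1) → F := fun i => if i = Fin.last k then δ else 1 with hd
  have hd0 : ∀ i, d i ≠ 0 := fun i => by simp only [hd]; split_ifs <;> simp [hδ]
  obtain ⟨P, Q, hPQ, hQP, hQ⟩ := hC.symm
  let D : GL (Fin (k + 1)) F := Matrix.GeneralLinearGroup.mkOfDetNeZero (Matrix.diagonal d) (by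
    rw [Matrix.det_diagonal]; exact Finset.prod_ne_zero_iff.2 fun i _ => hd0 i)
  exact ⟨⟨P, Q, hPQ, hQP⟩, D, d, hd0, rfl, (CfsgLib.KnownC.GraphForms.Lin.conj_eq_iff hn _ M D).2
    ⟨1, by rw [Units.val_one, one_smul]; exact hQ⟩⟩

/-- Fixed classes of isometries. -/
theorem iso_mem_fix (hn : 3 ≤ n) (M : GL (Fin n) F) (s : Matrix.SpecialLinearGroup (Fin n) F)
    (hs : (s : Mn)ᵀ * (M : Mn) * (s : Mn) = (M : Mn)) : (QuotientGroup.mk s : PSLn) ∈ fixPts (gInv M) := by
  rw [← CfsgLib.KnownC.AutPSU.Balance.conj_mem_centralizer (conj_injective (by omega)), conj_mk,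
    Subgroup.mem_centralizer_singleton_iff]
  exact (CfsgLib.KnownC.GraphForms.Lin.commute_iff hn _ M).2
    ⟨1, by rw [Units.val_one, one_smul]; exact hs⟩

/-- Local balance for involutory graph automorphisms. -/
theorem graph_core (hn : 3 ≤ n) {r : ℕ} [Fact r.Prime] [CharP F r] (hr : Odd r) (h2 : (2 : F) ≠ 0)
    (A : GL (Fin n) F) (hA : (semiAut A (RingEquiv.refl F) * itAut) ^ 2 = 1)
    (𝒢 : Subgroup (MulAut PSLn)) (hinn : ∀ k, MulAut.conj k ∈ 𝒢) :
    Cfsg.pPrimeCore 2 ↥(𝒢 ⊓ Subgroup.centralizer {semiAut A (RingEquiv.refl F) * itAut}) = ⊥ := by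
  haveI : Finite PSLn := Quotient.finite _
  have hinj := conj_injective (F := F) (n := n) (by omega : 2 ≤ n)
  have hAM : semiAut A (RingEquiv.refl F) * itAut = gInv A⁻¹ := by rw [gInv, inv_inv]
  rw [hAM] at hA ⊢
  obtain ⟨M, ε, hγ, hM, hε⟩ := CfsgLib.KnownC.GraphForms.Lin.exists_form hn
    (CfsgLib.KnownC.GraphForms.Lin.graph_gInv hn A⁻¹)
    (orderOf_eq_prime hA (CfsgLib.KnownC.GraphForms.Lin.ne_one hn A⁻¹))
  rw [hγ]
  rcases hε with rfl | rfl
  · rw [one_smul] at hM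
    obtain ⟨h, D, d, hd0, hD, hconj⟩ := gInv_diag hn h2 M hM
    refine CfsgLib.KnownC.AutPSU.Balance.core_transport 2 _ (semiAut h (RingEquiv.refl F)) 𝒢 ?_
    rw [hconj]
    refine CfsgLib.KnownC.AutPSU.Balance.core_bot hinj _ _ (fun l => ⟨_, hinn ((semiAut h (RingEquiv.refl F)).symm l), ?_⟩)
      (graph_core_fix' hn hr h2 D (ε := 1) (by rw [hD, Matrix.diagonal_transpose, one_smul]) (Or.inl rfl))
      fun m _ hm hfix => ?_
    · show semiAut h (RingEquiv.refl F) * MulAut.conj _ * (semiAut h (RingEquiv.refl F))⁻¹ = MulAut.conj l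
      rw [CfsgLib.KnownC.AutPSU.Balance.conj_apply_aut, MulEquiv.apply_symm_apply]
    · exact diag_fix hn h2 1 (by simp) d hd0 (fun _ => rfl) m (Nat.coprime_two_right.1 hm) fun s _ hs =>
        hfix _ (iso_mem_fix hn D s (by rw [hD]; exact hs))
  · refine CfsgLib.KnownC.AutPSU.Balance.core_bot hinj _ 𝒢 hinn (graph_core_fix' hn hr h2 M hM (Or.inr rfl))
      fun m _ hm hfix => ?_
    rw [neg_one_smul] at hM
    exact alt_fix hn M hM (CfsgLib.KnownC.GraphForms.alt_of_neg h2 hM) m (Nat.coprime_two_right.1 hm) fun s hs =>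
      hfix _ (iso_mem_fix hn M s hs)

/-- Local balance for involutory graph-field automorphisms. -/
theorem gf_core (hn : 3 ≤ n) (h2 : (2 : F) ≠ 0) (A : GL (Fin n) F) (σ : F ≃+* F) (hσ : orderOf σ = 2)
    (hA : (semiAut A σ * itAut) ^ 2 = 1) (𝒢 : Subgroup (MulAut PSLn)) (hinn : ∀ k, MulAut.conj k ∈ 𝒢) :
    Cfsg.pPrimeCore 2 ↥(𝒢 ⊓ Subgroup.centralizer {semiAut A σ * itAut}) = ⊥ := by
  haveI : Finite PSLn := Quotient.finite _
  have hinj := conj_injective (F := F) (n := n) (by omega : 2 ≤ n)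
  have hσσ : σ * σ = 1 := by rw [← pow_two, ← hσ, pow_orderOf_eq_one]
  obtain ⟨g, hg⟩ := gf_conj hn A σ hσσ (fun e => by
    rw [e, show RingEquiv.refl F = 1 from rfl, orderOf_one] at hσ; omega) hA
  set α := (semiAut g (RingEquiv.refl F))⁻¹ with hα
  refine CfsgLib.KnownC.AutPSU.Balance.core_transport 2 _ α 𝒢 ?_
  rw [show α * (semiAut A σ * itAut) * α⁻¹ = semiAut 1 σ * itAut by rw [hg, hα]; group]
  refine CfsgLib.KnownC.AutPSU.Balance.core_bot hinj _ _ (fun l => ⟨_, hinn (α.symm l), ?_⟩)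
    (gf_core_fix hn σ hσ h2) fun m _ hm hfix => ?_
  · show α * MulAut.conj _ * α⁻¹ = MulAut.conj l
    rw [CfsgLib.KnownC.AutPSU.Balance.conj_apply_aut, MulEquiv.apply_symm_apply]
  · refine diag_fix hn h2 σ hσ.dvd (fun _ => 1) (fun _ => one_ne_zero) (fun _ => map_one σ) m
      (Nat.coprime_two_right.1 hm) fun s hsσ hs => hfix _ (gf_mem σ (sigma_sq_of_orderOf hσ) ?_)
    rw [hsσ]
    simpa using hs

end CfsgLib.KnownC.AutPSL.Balance
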